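import Cfsg.Agent.Lib.MathieuTwentyThreeOrder.Arith

/-!
# The first stage by values: multisets of degree and value pairs

For large automisers the possible values at the involution are much sparser than the degree rows, so
the pairs are enumerated directly and the degree relation is checked afterwards.
-/

set_option autoImplicit false

namespace CfsgLib.MathieuTwentyThree.ByOrder

open CfsgLib.MathieuTwentyTwo.ByOrder (Row sd degLin valLin degProd quadNum)

/-- The square of a value. -/
def vsq (a : ℕ × ℤ) : ℕ := a.2.natAbs * a.2.natAbs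

/-- The least square of a value in a list. -/
def minV : List (ℕ × ℤ) → ℕ
  | [] => 0
  | a :: D => D.foldl (fun m b => min m (vsq b)) (vsq a)

theorem foldl_min_le (D : List (ℕ × ℤ)) : ∀ m : ℕ,
    D.foldl (fun m b => min m (vsq b)) m ≤ m ∧
      ∀ b ∈ D, D.foldl (fun m b => min m (vsq b)) m ≤ vsq b := by
  induction D with
  | nil => simp
  | cons a D ih =>
    intro m
    simp only [List.foldl_cons, List.mem_cons, forall_eq_or_imp]
    obtain ⟨h1, h2⟩ := ih (min m (vsq a))
    exact ⟨h1.trans (min_le_left _ _), h1.trans (min_le_right _ _), h2⟩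

theorem minV_le {D : List (ℕ × ℤ)} {b : ℕ × ℤ} (h : b ∈ D) : minV D ≤ vsq b := by
  cases D with
  | nil => simp at h
  | cons a D =>
    obtain ⟨h1, h2⟩ := foldl_min_le D (vsq a)
    rcases List.mem_cons.1 h with rfl | h
    exacts [h1, h2 b h]

/-- Multisets of size `k` of pairs, both sums of squares bounded. -/
def psetsGo (f : List (ℕ × ℤ) → ℕ → ℕ → List (List (ℕ × ℤ))) (k : ℕ) :
    List (ℕ × ℤ) → ℕ → ℕ → List (List (ℕ × ℤ))
  | [], _, _ => []
  | a :: D, bd, bv => (if a.1 * a.1 ≤ bd && vsq a + k * minV (a :: D) ≤ bv then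
      (f (a :: D) (bd - a.1 * a.1) (bv - vsq a)).map (a :: ·) else []) ++ psetsGo f k D bd bv

/-- Multisets of size `k` of pairs, both sums of squares bounded. -/
def psets : ℕ → List (ℕ × ℤ) → ℕ → ℕ → List (List (ℕ × ℤ))
  | 0 => fun _ _ _ => [[]]
  | k + 1 => psetsGo (psets k) k

theorem mem_psets : ∀ (k : ℕ) (D : List (ℕ × ℤ)) (bd bv : ℕ) (L : List (ℕ × ℤ)),
    L.length = k → (∀ a ∈ L, a ∈ D) → (L.map fun a => a.1 * a.1).sum ≤ bd →
    (L.map vsq).sum ≤ bv → ∃ l ∈ psets k D bd bv, l.Perm L
  | 0, D, bd, bv, L, hl, _, _, _ => by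
    rw [List.length_eq_zero_iff.1 hl]
    exact ⟨[], by simp [psets], List.Perm.refl _⟩
  | k + 1, D, bd, bv, L, hl, hmem, hd, hv => by
    simp only [psets]
    induction D with
    | nil =>
      obtain ⟨a, ha⟩ := List.exists_mem_of_length_pos (by omega : 0 < L.length)
      exact absurd (hmem a ha) List.not_mem_nil
    | cons d D ih =>
      simp only [psetsGo]
      by_cases hdL : d ∈ L
      · have hperm := List.perm_cons_erase hdL
        have hlen : (L.erase d).length = k := by rw [List.length_erase_of_mem hdL, hl]; omega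
        have h1 := (hperm.map fun a => a.1 * a.1).sum_eq
        have h2 := (hperm.map vsq).sum_eq
        rw [List.map_cons, List.sum_cons] at h1 h2
        have h3 : k * minV (d :: D) ≤ ((L.erase d).map vsq).sum := by
          have := List.card_nsmul_le_sum ((L.erase d).map vsq) (minV (d :: D)) fun x hx => by
            obtain ⟨a, ha, rfl⟩ := List.mem_map.1 hx
            exact minV_le (hmem a (List.mem_of_mem_erase ha))
          rwa [List.length_map, hlen, smul_eq_mul] at this
        obtain ⟨l, hl1, hl2⟩ := mem_psets k (d :: D) (bd - d.1 * d.1) (bv - vsq d) (L.erase d)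
          hlen (fun a ha => hmem a (List.mem_of_mem_erase ha)) (by omega) (by omega)
        exact ⟨d :: l, List.mem_append_left _ (by
          rw [if_pos (by simp only [Bool.and_eq_true, decide_eq_true_eq]; omega)]
          exact List.mem_map_of_mem hl1), (hl2.cons d).trans hperm.symm⟩
      · obtain ⟨l, hl1, hl2⟩ := ih fun a ha => by
          rcases List.mem_cons.1 (hmem a ha) with rfl | h
          · exact absurd ha hdL
          · exact h
        exact ⟨l, List.mem_append_right _ hl1, hl2⟩

/-- The conditions on the exceptional degree and value. -/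
def vOK (p e c C : ℕ) (A : List ℕ) (it : List (ℕ × ℤ)) (ε : ℤ) : Bool :=
  (2 ≤ ε * degLin p (it.map Prod.fst)) &&
    ((ε * degLin p (it.map Prod.fst) - ε * e) % (p : ℤ) == 0) &&
    A.contains (ε * degLin p (it.map Prod.fst)).toNat &&
    decide ((ε * valLin p it).natAbs < (ε * degLin p (it.map Prod.fst)).toNat) &&
    decide ((it.map vsq).sum + (p - 1) / e * ((ε * valLin p it).natAbs * (ε * valLin p it).natAbs) ≤
      C - 1) &&
    quadOK p e c C (degProd it (ε * degLin p (it.map Prod.fst)).toNat)
      (quadNum p it (ε * degLin p (it.map Prod.fst)).toNat ε (ε * valLin p it))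

/-- The first stage by values. -/
def vstage (p e c : ℕ) (A : List ℕ) : List (ℕ × List (ℕ × ℤ)) :=
  (cents p e c).flatMap fun C =>
    (psets (e - 1) (((allowed p c A).filter fun d => (d % p == 1) || (d % p + 1 == p)).flatMap
        fun d => (opts (4 * p) C (C - 1) d).map fun v => (d, v)) (ord23 - 1) (C - 1)).flatMap
      fun it => [(1 : ℤ), -1].flatMap fun ε =>
        if vOK p e c C (allowed p c A) it ε then [(C, it)] else []

theorem vOK_perm {p e c C : ℕ} {A : List ℕ} {it it' : List (ℕ × ℤ)} (h : it.Perm it') (ε : ℤ) :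
    vOK p e c C A it ε = vOK p e c C A it' ε := by
  have h1 : degLin p (it.map Prod.fst) = degLin p (it'.map Prod.fst) := by
    simp only [degLin]; rw [((h.map _).map _).sum_eq]
  have h2 : valLin p it = valLin p it' := by simp only [valLin]; rw [(h.map _).sum_eq]
  have h3 : ∀ x, degProd it x = degProd it' x := fun x => by
    simp only [degProd]; rw [(h.map Prod.fst).prod_eq]
  have h4 : ∀ x ε' w, quadNum p it x ε' w = quadNum p it' x ε' w := fun x ε' w => by
    simp only [quadNum, h3]; rw [(h.map _).sum_eq]
  simp only [vOK, h1, h2, h3, h4, (h.map vsq).sum_eq]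

theorem Filled.mem_vstage {p e c C : ℕ} {A : List ℕ} {r : Row} (hr : r ∈ rows p e (allowed p c A))
    (hC : C ∈ cents p e c) {known it : List (ℕ × ℤ)} {w : ℤ}
    (h : Filled p e c (4 * p) C (C - 1) r known it w) : ∃ it', (C, it') ∈ vstage p e c A := by
  obtain ⟨ds, hds, hr⟩ := List.mem_flatMap.1 hr
  obtain ⟨ε, hε, hr⟩ := List.mem_flatMap.1 hr
  split_ifs at hr with hcond
  · rw [List.mem_singleton] at hr
    subst hr
    simp only [Bool.and_eq_true, decide_eq_true_eq, beq_iff_eq, List.contains_iff_mem] at hcond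
    obtain ⟨⟨⟨h2, hp⟩, hx⟩, hN⟩ := hcond
    have hfst : it.map Prod.fst = ds := h.fst
    set O := ((allowed p c A).filter fun d => (d % p == 1) || (d % p + 1 == p)).flatMap
        fun d => (opts (4 * p) C (C - 1) d).map fun v => (d, v) with hO
    have hsub : ∀ (k : ℕ) (D : List ℕ) (b : ℕ) (l : List ℕ),
        l ∈ CfsgLib.MathieuTwentyTwo.ByOrder.msets k D b → l.length = k ∧ ∀ a ∈ l, a ∈ D := by
      intro k
      induction k with
      | zero => intro D b l hl; simp [CfsgLib.MathieuTwentyTwo.ByOrder.msets] at hl; subst hl; simp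
      | succ k ih =>
        intro D
        induction D with
        | nil =>
          intro b l hl
          simp [CfsgLib.MathieuTwentyTwo.ByOrder.msets,
            CfsgLib.MathieuTwentyTwo.ByOrder.msetsGo] at hl
        | cons d D ihD =>
          intro b l hl
          simp only [CfsgLib.MathieuTwentyTwo.ByOrder.msets,
            CfsgLib.MathieuTwentyTwo.ByOrder.msetsGo, List.mem_append] at hl
          rcases hl with hl | hl
          · split_ifs at hl with hc
            · obtain ⟨l', hl', rfl⟩ := List.mem_map.1 hl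
              obtain ⟨e1, e2⟩ := ih _ _ _ hl'
              exact ⟨by simp [e1], fun a ha => by
                rcases List.mem_cons.1 ha with rfl | ha
                exacts [List.mem_cons_self, e2 a ha]⟩
            · simp at hl
          · obtain ⟨e1, e2⟩ := ihD b l hl
            exact ⟨e1, fun a ha => List.mem_cons_of_mem _ (e2 a ha)⟩
    obtain ⟨hlen, hmemds⟩ := hsub _ _ _ _ hds
    have hmem : ∀ a ∈ it, a ∈ O := by
      intro a ha
      obtain ⟨hv1, hv2, hv3⟩ := h.val a ha
      have h1 := List.single_le_sum (l := it.map fun a => a.2.natAbs * a.2.natAbs)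
        (fun _ _ => Nat.zero_le _) _ (List.mem_map_of_mem ha)
      have h2' : a.2.natAbs * a.2.natAbs ≤ C - 1 :=
        le_trans h1 (le_trans (Nat.le_add_right _ _) h.sq)
      refine List.mem_flatMap.2 ⟨a.1, hmemds _ (hfst ▸ List.mem_map_of_mem ha), List.mem_map.2
        ⟨a.2, mem_opts h.bound hv1 ?_ hv2 hv3, rfl⟩⟩
      rw [← Int.natAbs_mul_self]
      exact_mod_cast h2'
    obtain ⟨it', hit', hperm⟩ := mem_psets (e - 1) O (ord23 - 1) (C - 1) it
      (by rw [← hlen, ← hfst, List.length_map]) hmem (by
        have : (it.map fun a => a.1 * a.1).sum = (ds.map fun d => d * d).sum := by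
          rw [← hfst, List.map_map]; rfl
        omega) (le_trans (Nat.le_add_right _ _) h.sq)
    refine ⟨it', List.mem_flatMap.2 ⟨C, hC, List.mem_flatMap.2 ⟨it', hit', List.mem_flatMap.2
      ⟨ε, hε, ?_⟩⟩⟩⟩
    rw [if_pos]
    · exact List.mem_singleton.2 rfl
    · rw [vOK_perm hperm]
      have hw := h.rel
      simp only [vOK, hfst, ← hw, Bool.and_eq_true, decide_eq_true_eq, beq_iff_eq,
        List.contains_iff_mem]
      exact ⟨⟨⟨⟨⟨h2, hp⟩, hx⟩, h.valw.1⟩, h.sq⟩, h.quad⟩
  · simp at hr

end CfsgLib.MathieuTwentyThree.ByOrder
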