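import Cfsg.Agent.Lib.MathieuTwentyTwoOrder.Bridge
import Cfsg.Agent.Lib.MathieuTwentyThreeOrder.Facts
import Cfsg.Agent.Lib.MathieuTwentyThreeOrder.ValueSearch

/-!
# A principal block and the values at an involution give a filled row of the searches
-/

set_option autoImplicit false
set_option linter.style.haveILetI false
set_option linter.unusedSectionVars false

noncomputable section

namespace CfsgLib.MathieuTwentyThree.ByOrder

open Cfsg CfsgLib.Characters CfsgLib.CharCorr CfsgLib.ClassCount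
open CfsgLib.MathieuTwentyTwo.ByOrder (regPart mem_regPart one_mem_regPart exists_mem_ne_one
  card_centralizer Blk val charDegree_principal apply_principal orderOf_eq_p commute_regPart
  inv_mem_regPart exists_regPart_orderOf dg pr RowOf exists_map_eq items xCoset exists_sq
  pairs_formula Row sd rt rt_spec le_rt rt_sq degLin valLin degProd quadNum nm leL leL_of_le)
open scoped ComplexConjugate Classical

universe u

variable {G : Type u} [Group G] [Fintype G] {p : ℕ} [hp : Fact p.Prime]

theorem degs_eq {q : ℕ} [Fact q.Prime] {P : Sylow q G} {e : ℕ} {B : Blk P e} {r : Row} (R : RowOf B r) :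
    ((r.degs : List ℕ) : Multiset ℕ) = B.members.val.map dg := by
  have hdisj : Disjoint (B.X.erase (principalIrr G)) B.Y :=
    B.disj.mono_left (Finset.erase_subset _ _)
  rw [Blk.members, ← Finset.disjUnion_eq_union _ _ hdisj, Finset.disjUnion_val, Multiset.map_add,
    ← R.cs_eq, Multiset.map_coe, R.ds_eq, Row.degs, ← Multiset.coe_add, Multiset.coe_replicate,
    R.t_eq]
  congr 1
  symm
  refine Multiset.eq_replicate.2 ⟨Multiset.card_map _ _, fun a ha => ?_⟩
  obtain ⟨χ, hχ, rfl⟩ := Multiset.mem_map.1 ha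
  exact (B.dg_eq hχ R.ψ_mem).trans R.x_eq

/-- Members of degree prime to `q` lie in the block at `q` when its regular part is trivial. -/
theorem filter_subset {q : ℕ} [Fact q.Prime] {Q : Sylow q G} {eq : ℕ} (Bq : Blk Q eq) (hc : (regPart Q).card = 1)
    {S : Finset (IrrCharacter G)} (hS : ∀ χ ∈ S, χ ≠ principalIrr G) :
    S.filter (fun χ => ¬ q ∣ dg χ) ⊆ Bq.members := by
  intro χ hχ
  rw [Finset.mem_filter] at hχ
  refine Bq.mem_members (hS χ hχ.1) ?_
  by_contra h
  rw [not_or] at h
  exact hχ.2 (Bq.dvd_other hc χ h.1 h.2)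

theorem coe_nm {α : Type*} (deg : α → ℕ) (q : ℕ) (L : List α) :
    ((nm deg q L : List α) : Multiset α) = (L : Multiset α).filter (fun a => ¬ q ∣ deg a) := by
  rw [nm, Multiset.filter_coe]
  exact congrArg _ (List.filter_congr fun a _ => by simp [Nat.dvd_iff_mod_eq_zero])

/-- The items of degree prime to `q`. -/
theorem filter_items_le {q : ℕ} [Fact q.Prime] {Q : Sylow q G} {eq : ℕ} (Bq : Blk Q eq) (hc : (regPart Q).card = 1)
    {S : Finset (IrrCharacter G)} (hS : ∀ χ ∈ S, χ ≠ principalIrr G) (z : G) :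
    (S.val.map (pr z)).filter (fun a => ¬ q ∣ a.1) ≤ items Bq z := by
  rw [Multiset.filter_map]
  exact Multiset.map_le_map (Finset.val_le_iff.2 (filter_subset Bq hc hS))

/-- Members of a block are not divisible by its prime. -/
theorem not_dvd_dg {P : Sylow p G} {e : ℕ} (B : Blk P e)
    (he : ¬ p ∣ e) {χ : IrrCharacter G} (h : χ ∈ B.members) : ¬ p ∣ dg χ := by
  intro hd
  have hd' : (p : ℤ) ∣ (dg χ : ℤ) := Int.natCast_dvd_natCast.2 hd
  rcases B.mem_or_mem h with h' | h'
  · have h1 := dvd_sub hd' (B.degX χ h')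
    rw [sub_sub_cancel] at h1
    rcases B.sgn_spec χ h' with hs | hs <;> rw [hs] at h1
    · exact hp.out.not_dvd_one (by exact_mod_cast h1)
    · exact hp.out.not_dvd_one (by exact_mod_cast dvd_neg.1 h1)
  · have h1 := dvd_sub hd' (B.degY χ h')
    rw [sub_sub_cancel] at h1
    rcases B.ε_spec with hs | hs <;> rw [hs] at h1
    · rw [one_mul] at h1; exact he (by exact_mod_cast h1)
    · rw [neg_one_mul, dvd_neg] at h1; exact he (by exact_mod_cast h1)

variable [IsSimpleGroup G]

theorem sum_members_le (hG : Nat.card G = ord23) {P : Sylow p G} {e : ℕ} (B : Blk P e) :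
    1 + ∑ χ ∈ B.members, dg χ * dg χ ≤ ord23 := by
  have hni : principalIrr G ∉ B.members := fun h => B.ne_principal h rfl
  have h := (Finset.sum_le_sum_of_subset (f := fun χ : IrrCharacter G => dg χ * dg χ)
    (Finset.subset_univ (insert (principalIrr G) B.members))).trans (sum_deg_sq hG).le
  rw [Finset.sum_insert hni, show dg (principalIrr G : IrrCharacter G) = 1 from charDegree_principal,
    one_mul] at h
  exact h

/-- The block's degrees form a row. -/
theorem exists_row (hG : Nat.card G = ord23) (hodd : p ≠ 2) {P : Sylow p G} {e : ℕ}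
    (B : Blk P e) {A : List ℕ} (hA : A.Pairwise (· < ·)) (hdeg : ∀ χ ∈ B.members, dg χ ∈ A) :
    ∃ r ∈ rows p e A, Nonempty (RowOf B r) := by
  obtain ⟨ψ, hψ⟩ := B.Y_nonempty
  have hψm : ψ ∈ B.members := Finset.mem_union_right _ hψ
  set X' := B.X.erase (principalIrr G) with hX'
  have he1 : 1 ≤ e := B.card_X ▸ Finset.card_pos.2 ⟨_, B.one_mem⟩
  have ht : (p - 1) / e = B.Y.card := by
    rw [← B.card_Y, Nat.mul_div_cancel_left _ he1]
  have hL : ∀ d ∈ X'.toList.map dg, d ∈ A ∧ (d % p = 1 ∨ d % p + 1 = p) := by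
    intro d hd
    obtain ⟨χ, hχ, rfl⟩ := List.mem_map.1 hd
    rw [Finset.mem_toList] at hχ
    exact ⟨hdeg χ (Finset.mem_union_left _ hχ), (B.mod_sgn hodd (Finset.mem_erase.1 hχ).2).1⟩
  have hx2 : 2 ≤ dg ψ := by
    have h1 : dg ψ ≠ 1 := fun h => B.ne_principal hψm
      (Order7920.eq_principal_of_charDegree_one (nc hG) h)
    have : 0 < dg ψ := (ClassCount.degree_eq ψ).2.2
    omega
  have hlin : (dg ψ : ℤ) = B.ε * degLin p (X'.toList.map dg) := by
    have hsum : ((X'.toList.map dg).map fun d => sd p d * (d : ℤ)).sum =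
        ∑ χ ∈ X', B.sgn χ * (dg χ : ℤ) := by
      rw [List.map_map, ← Multiset.sum_coe, ← Multiset.map_coe, Finset.coe_toList,
        ← Finset.sum_eq_multiset_sum]
      exact Finset.sum_congr rfl fun χ hχ => by
        rw [Function.comp_apply, (B.mod_sgn hodd (Finset.mem_erase.1 hχ).2).2]
    have h := B.rel_split hψ (g := 1) (by rw [orderOf_one]; exact hp.out.not_dvd_one)
    simp only [irr_one_eq_charDegree] at h
    have h' : B.ε * (dg ψ : ℤ) = 1 + ∑ χ ∈ X', B.sgn χ * (dg χ : ℤ) := by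
      apply Int.cast_injective (α := ℂ)
      push_cast
      exact h
    rw [degLin, hsum, ← h', ← mul_assoc]
    rcases B.ε_spec with hε | hε <;> rw [hε] <;> ring
  have hN : 1 + ((X'.toList.map dg).map fun d => d * d).sum + (p - 1) / e * (dg ψ * dg ψ) ≤
      ord23 := by
    refine le_of_eq_of_le ?_ (sum_members_le hG B)
    have hdisj : Disjoint X' B.Y := B.disj.mono_left (Finset.erase_subset _ _)
    rw [Blk.members, Finset.sum_union hdisj, ht,
      Finset.sum_congr rfl (g := fun _ => dg ψ * dg ψ) (fun χ hχ => by rw [B.dg_eq hχ hψ] :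
        ∀ χ ∈ B.Y, dg χ * dg χ = _),
      Finset.sum_const, smul_eq_mul, add_assoc]
    congr 2
    rw [List.map_map, ← Multiset.sum_coe, ← Multiset.map_coe, Finset.coe_toList,
      Finset.sum_eq_multiset_sum]
    rfl
  obtain ⟨ds, hperm, hr⟩ := mem_rows hA B.ε_spec
    (by rw [List.length_map, Finset.length_toList, hX', Finset.card_erase_of_mem B.one_mem,
      B.card_X])
    hL (hdeg ψ hψm) hx2 hlin (B.degY ψ hψ) hN
  obtain ⟨cs, hcs, hds⟩ := exists_map_eq dg ds X'.val (by
    rw [← Finset.coe_toList, Multiset.map_coe]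
    exact Quot.sound hperm)
  exact ⟨_, hr, ⟨⟨cs, ψ, hcs, hψ, hds, rfl, rfl, ht⟩⟩⟩

theorem items_eq {P : Sylow p G} {e : ℕ} {B : Blk P e} {r : Row} (R : RowOf B r)
    (hG : Nat.card G = ord23) {z : G} (hz : orderOf z = 2) (hzr : ¬ p ∣ orderOf z) :
    items B z = ((R.cs.map (pr z) ++ List.replicate r.t (r.x, val z R.ψ) : List (ℕ × ℤ)) :
      Multiset (ℕ × ℤ)) := by
  have hdisj : Disjoint (B.X.erase (principalIrr G)) B.Y :=
    B.disj.mono_left (Finset.erase_subset _ _)
  rw [items, Blk.members, ← Finset.disjUnion_eq_union _ _ hdisj, Finset.disjUnion_val,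
    Multiset.map_add, ← R.cs_eq, Multiset.map_coe, ← Multiset.coe_add, Multiset.coe_replicate,
    R.t_eq]
  congr 1
  refine Multiset.eq_replicate.2 ⟨Multiset.card_map _ _, fun a ha => ?_⟩
  obtain ⟨χ, hχ, rfl⟩ := Multiset.mem_map.1 ha
  have h := B.regY χ hχ R.ψ R.ψ_mem z hzr
  rw [apply_eq_val hG hz, apply_eq_val hG hz, Int.cast_inj] at h
  exact Prod.ext ((B.dg_eq hχ R.ψ_mem).trans R.x_eq) h

/-- The values at an involution fill the row, as arithmetical conditions. -/
theorem exists_filled {P : Sylow p G} {e : ℕ} {B : Blk P e} {r : Row} (R : RowOf B r)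
    (hG : Nat.card G = ord23) (hodd : p ≠ 2) (hP : Nat.card (P : Subgroup G) = p)
    (he : (Subgroup.centralizer ((P : Subgroup G) : Set G)).relIndex
      (Subgroup.normalizer ((P : Subgroup G) : Set G)) = e)
    {z : G} (hz : orderOf z = 2) {mo b : ℕ}
    (hmo : ∀ χ ∈ B.members, (mo : ℤ) ∣ val z χ - (dg χ : ℤ)) (hb : b < 4 ^ 10)
    (hsq : ∑ χ ∈ B.members, (val z χ).natAbs * (val z χ).natAbs ≤ b)
    {known : List (ℕ × ℤ)} (hk : (known : Multiset (ℕ × ℤ)) ≤ items B z) :
    ∃ (it : List (ℕ × ℤ)) (w : ℤ),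
      Filled p e (regPart P).card mo (Nat.card (Subgroup.centralizer ({z} : Set G))) b r known it w ∧
      ((it ++ List.replicate r.t (r.x, w) : List (ℕ × ℤ)) : Multiset (ℕ × ℤ)) = items B z := by
  have hzr : ¬ p ∣ orderOf z := by
    rw [hz]
    exact fun h => hodd ((Nat.prime_dvd_prime_iff_eq hp.out Nat.prime_two).1 h)
  have hψm : R.ψ ∈ B.members := Finset.mem_union_right _ R.ψ_mem
  have hmem : ∀ χ ∈ R.cs, χ ∈ B.members := fun χ hχ => Finset.mem_union_left _ (by
    rw [← Multiset.mem_coe, R.cs_eq] at hχ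
    exact hχ)
  have hitems := items_eq R hG hz hzr
  refine ⟨R.cs.map (pr z), val z R.ψ, ?_, hitems.symm⟩
  refine ⟨?_, hb, ?_, ?_, ?_, ?_, ?_, ?_⟩
  · rw [List.map_map]
    exact R.ds_eq
  · intro a ha
    obtain ⟨χ, hχ, rfl⟩ := List.mem_map.1 ha
    exact ⟨(val_bound hG hz (B.ne_principal (hmem χ hχ))).1, hmo χ (hmem χ hχ), dvd_val hG hz χ⟩
  · rw [← R.x_eq]
    exact ⟨(val_bound hG hz (B.ne_principal hψm)).1, hmo _ hψm, dvd_val hG hz _⟩
  · rw [R.eps_eq]
    exact R.valLin_eq hodd hzr (apply_eq_val hG hz)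
  · refine le_of_eq_of_le ?_ hsq
    have h : ((items B z).map fun a => a.2.natAbs * a.2.natAbs).sum =
        ∑ χ ∈ B.members, (val z χ).natAbs * (val z χ).natAbs := by
      rw [items, Multiset.map_map]
      rfl
    rw [← h, hitems, Multiset.map_coe, Multiset.sum_coe, List.map_append, List.sum_append,
      List.map_replicate, List.sum_replicate, smul_eq_mul]
  · -- the class multiplication formula
    obtain ⟨x, hx, hx1⟩ := exists_mem_ne_one P hP
    obtain ⟨u, hu, hsquare, hzero⟩ := exists_sq hodd hP he hz hx hx1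
    have hform := pairs_formula B (apply_eq_val hG hz) hx hx1 R.ψ_mem hzr
    set T := (pairs z z (xCoset P x)).card with hT
    set C := Nat.card (Subgroup.centralizer ({z} : Set G)) with hC
    set c := (regPart P).card with hc
    set Pd := degProd (R.cs.map (pr z)) r.x with hPd
    have hdpos : ∀ χ : IrrCharacter G, 0 < dg χ := fun χ => (ClassCount.degree_eq χ).2.2
    have hPd0 : 0 < Pd := by
      rw [hPd, degProd, List.map_map, ← R.x_eq]
      exact Nat.mul_pos (hdpos _) (Nat.pos_of_ne_zero fun h => by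
        obtain ⟨χ, -, h'⟩ := List.mem_map.1 (List.prod_eq_zero_iff.1 h)
        exact (hdpos χ).ne' h')
    have hcof : ∀ χ : IrrCharacter G, dg χ ∣ Pd →
        (cofDegree χ : ℤ) * (Pd : ℤ) = (ord23 : ℤ) * ((Pd / dg χ : ℕ) : ℤ) := by
      intro χ hχ
      obtain ⟨t, ht⟩ := hχ
      rw [ht, Nat.mul_div_cancel_left _ (hdpos χ), ← hG, ← degree_mul_cofDegree χ]
      push_cast
      ring
    have hsum : (∑ χ ∈ B.X, B.sgn χ * (cofDegree χ : ℤ) * (val z χ * val z χ)) * (Pd : ℤ) =
        (ord23 : ℤ) * ((Pd : ℤ) + ((R.cs.map (pr z)).map fun a =>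
          sd p a.1 * (a.2 * a.2) * ((Pd / a.1 : ℕ) : ℤ)).sum) := by
      rw [← Finset.add_sum_erase _ _ B.one_mem, add_mul, mul_add, B.sgn_one,
        val_principal hG hz, one_mul, mul_one, mul_one, hcof _ (by
          rw [show dg (principalIrr G : IrrCharacter G) = 1 from charDegree_principal]
          exact one_dvd _),
        show dg (principalIrr G : IrrCharacter G) = 1 from charDegree_principal, Nat.div_one]
      congr 1
      rw [Finset.sum_mul, Finset.sum_eq_multiset_sum, ← R.cs_eq, Multiset.map_coe,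
        Multiset.sum_coe, List.map_map, ← List.sum_map_mul_left]
      refine congrArg List.sum (List.map_congr_left fun χ hχ => ?_)
      have hd : dg χ ∣ Pd := by
        rw [hPd, degProd, List.map_map]
        exact Dvd.dvd.mul_left (List.dvd_prod (List.mem_map.2 ⟨χ, hχ, rfl⟩)) _
      have hX : χ ∈ B.X := by
        rw [← Multiset.mem_coe, R.cs_eq] at hχ
        exact (Finset.mem_erase.1 (Finset.mem_def.2 hχ)).2
      simp only [Function.comp_apply, pr]
      rw [← (B.mod_sgn hodd hX).2]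
      linear_combination (sd p (dg χ) * (val z χ * val z χ)) * hcof χ hd
    have hψc := hcof R.ψ (by rw [hPd, degProd, R.x_eq]; exact Dvd.intro _ rfl)
    rw [R.x_eq] at hψc
    set Q := quadNum p (R.cs.map (pr z)) r.x r.eps (val z R.ψ) with hQ
    have key : (T : ℤ) * C * C * Pd = (ord23 : ℤ) * c * Q := by
      rw [hform, hQ, quadNum, ← hPd, R.eps_eq]
      linear_combination (c : ℤ) * hsum - (c : ℤ) * B.ε * (val z R.ψ * val z R.ψ) * hψc
    have hN0 : (0 : ℤ) < (ord23 : ℤ) * c := by
      have h1 : 0 < c := Finset.card_pos.2 ⟨1, one_mem_regPart P⟩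
      rw [ord23]
      positivity
    have hQ0 : 0 ≤ Q := by
      by_contra hlt
      rw [not_le] at hlt
      have := mul_neg_of_pos_of_neg hN0 hlt
      rw [← key] at this
      exact absurd this (not_lt.2 (by positivity))
    have hnum : ord23 * c * Q.toNat = T * (C * C * Pd) := by
      apply Nat.cast_injective (R := ℤ)
      push_cast
      rw [Int.toNat_of_nonneg hQ0]
      linarith
    have hden : 0 < C * C * Pd :=
      Nat.mul_pos (Nat.mul_pos Nat.card_pos Nat.card_pos) hPd0
    rw [quadOK, hnum, Nat.mul_mod_left, Nat.mul_div_cancel _ hden]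
    simp only [Bool.and_eq_true, Bool.or_eq_true, decide_eq_true_eq, beq_iff_eq, and_true]
    refine ⟨⟨hQ0, ?_⟩, ?_⟩
    · rcases Nat.mod_two_eq_zero_or_one e with h | h
      · exact Or.inl h
      · refine Or.inr ?_
        have h0 : T = 0 := hzero h
        rw [h0, Nat.cast_zero, zero_mul, zero_mul, zero_mul] at key
        exact (mul_eq_zero.1 key.symm).resolve_left hN0.ne'
    · rw [isSq, hsquare, rt_sq, beq_iff_eq]
      rw [hG] at hu
      calc u * u ≤ ord23 * ord23 := Nat.mul_le_mul hu hu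
        _ < 4 ^ 24 := by rw [ord23]; norm_num
  · rwa [hitems] at hk

/-- The values at an involution fill the row. -/
theorem exists_fill {P : Sylow p G} {e : ℕ} {B : Blk P e} {r : Row} (R : RowOf B r)
    (hG : Nat.card G = ord23) (hodd : p ≠ 2) (hP : Nat.card (P : Subgroup G) = p)
    (he : (Subgroup.centralizer ((P : Subgroup G) : Set G)).relIndex
      (Subgroup.normalizer ((P : Subgroup G) : Set G)) = e)
    {z : G} (hz : orderOf z = 2) {mo b : ℕ}
    (hmo : ∀ χ ∈ B.members, (mo : ℤ) ∣ val z χ - (dg χ : ℤ)) (hb : b < 4 ^ 10)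
    (hsq : ∑ χ ∈ B.members, (val z χ).natAbs * (val z χ).natAbs ≤ b)
    {known : List (ℕ × ℤ)} (hk : (known : Multiset (ℕ × ℤ)) ≤ items B z) :
    ∃ l ∈ fill p e (regPart P).card mo (Nat.card (Subgroup.centralizer ({z} : Set G))) b r known,
      (l : Multiset (ℕ × ℤ)) = items B z := by
  obtain ⟨it, w, h, heq⟩ := exists_filled R hG hodd hP he hz hmo hb hsq hk
  exact ⟨_, h.mem_fill, heq⟩

theorem sum_sq_le_pred (hG : Nat.card G = ord23) {z : G} (hz : orderOf z = 2)
    {S : Finset (IrrCharacter G)} (hS : principalIrr G ∉ S) :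
    ∑ χ ∈ S, (val z χ).natAbs * (val z χ).natAbs ≤
      Nat.card (Subgroup.centralizer ({z} : Set G)) - 1 := by
  have h := sum_val_sq hG hz (insert (principalIrr G) S)
  rw [Finset.sum_insert hS, val_principal hG hz] at h
  simp only [Int.natAbs_one, one_mul] at h
  omega

theorem budget_lt (hG : Nat.card G = ord23) {z : G} (hz : orderOf z = 2) :
    Nat.card (Subgroup.centralizer ({z} : Set G)) - 1 < 4 ^ 10 := by
  have := centralizer_le hG (z := z) (fun h => by rw [h, orderOf_one] at hz; norm_num at hz)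
  rw [show (4 : ℕ) ^ 10 = 1048576 by norm_num]
  omega

/-- With the involution in the regular part the values are congruent to the degrees mod `4p`. -/
theorem dvd_val_sub (hG : Nat.card G = ord23) (hodd : p ≠ 2) {P : Sylow p G}
    (hP : Nat.card (P : Subgroup G) = p) {e : ℕ} (B : Blk P e) {z : G} (hz : orderOf z = 2)
    (hzP : z ∈ regPart P) : ∀ χ ∈ B.members, ((4 * p : ℕ) : ℤ) ∣ val z χ - (dg χ : ℤ) := by
  obtain ⟨x, hx, hx1⟩ := exists_mem_ne_one P hP
  have hox := orderOf_eq_p hP hx hx1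
  have hX : ∀ χ ∈ B.X, (p : ℤ) ∣ val z χ - (dg χ : ℤ) := by
    intro χ hχ
    have h1 := val_modEq hG hodd hz hox (commute_regPart hx hzP) χ
      (B.valX χ hχ x hx hx1 z hzP)
    have h2 := dvd_sub h1 (B.degX χ hχ)
    rwa [show val z χ - B.sgn χ - ((dg χ : ℤ) - B.sgn χ) = val z χ - (dg χ : ℤ) by ring] at h2
  intro χ hχ
  have h4 := (val_bound hG hz (B.ne_principal hχ)).2
  have hp4 : IsCoprime (4 : ℤ) (p : ℤ) := by
    rw [show (4 : ℤ) = ((4 : ℕ) : ℤ) from rfl, Nat.isCoprime_iff_coprime,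
      show (4 : ℕ) = 2 ^ 2 from rfl]
    exact Nat.Coprime.pow_left 2 ((Nat.coprime_primes Nat.prime_two hp.out).2 hodd.symm)
  push_cast
  refine hp4.mul_dvd h4 ?_
  rcases B.mem_or_mem hχ with h | h
  · exact hX χ h
  · have hzr := (mem_regPart.1 hzP).2
    have e1 := B.rel_split h hzr
    have e2 := B.rel_split h (g := 1) (by rw [orderOf_one]; exact hp.out.not_dvd_one)
    simp only [apply_eq_val hG hz, irr_one_eq_charDegree] at e1 e2
    have e3 : B.ε * (val z χ - (dg χ : ℤ)) =
        ∑ θ ∈ B.X.erase (principalIrr G), B.sgn θ * (val z θ - (dg θ : ℤ)) := by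
      apply Int.cast_injective (α := ℂ)
      push_cast
      simp only [mul_sub, Finset.sum_sub_distrib]
      linear_combination e1 - e2
    have e4 : (p : ℤ) ∣ B.ε * (val z χ - (dg χ : ℤ)) :=
      e3 ▸ Finset.dvd_sum fun θ hθ => (hX θ (Finset.mem_erase.1 hθ).2).mul_left _
    rcases B.ε_spec with h' | h' <;> rw [h'] at e4
    · rwa [one_mul] at e4
    · rwa [neg_one_mul, dvd_neg] at e4

theorem two_mul_lt_dg (hG : Nat.card G = ord23) (hodd : p ≠ 2) {P : Sylow p G}
    (hP : Nat.card (P : Subgroup G) = p) {e : ℕ} (B : Blk P e) {z : G} (hz : orderOf z = 2)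
    (hzP : z ∈ regPart P) : ∀ χ ∈ B.members, 2 * p < dg χ := by
  intro χ hχ
  have hd : 1 < dg χ := by
    have h1 : dg χ ≠ 1 := fun h => B.ne_principal hχ
      (Order7920.eq_principal_of_charDegree_one (nc hG) h)
    have : 0 < dg χ := (ClassCount.degree_eq χ).2.2
    omega
  have hb := (val_bound hG hz (B.ne_principal hχ)).1
  obtain ⟨k, hk⟩ := dvd_val_sub hG hodd hP B hz hzP χ hχ
  push_cast at hk
  have hv : (val z χ).natAbs < dg χ := hb
  rcases lt_trichotomy k 0 with h | h | h
  · have : (4 : ℤ) * p * k ≤ 4 * p * (-1) :=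
      mul_le_mul_of_nonneg_left (by omega) (by positivity)
    omega
  · rw [h, mul_zero] at hk; omega
  · have : (4 : ℤ) * p * 1 ≤ 4 * p * k := mul_le_mul_of_nonneg_left (by omega) (by positivity)
    omega

/-- The degrees of the block are among the allowed ones. -/
theorem mem_allowed (hG : Nat.card G = ord23) (hodd : p ≠ 2) {P : Sylow p G}
    (hP : Nat.card (P : Subgroup G) = p) {e : ℕ} (B : Blk P e) {A : List ℕ}
    (hA : ∀ χ : IrrCharacter G, χ ≠ principalIrr G → dg χ ∈ A) (hp3 : p ≠ 3)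
    (hz : 2 ∣ (regPart P).card → ∀ χ ∈ B.members, 2 * p < dg χ) :
    ∀ χ ∈ B.members, dg χ ∈ allowed p (regPart P).card A := by
  intro χ hχ
  refine List.mem_filter.2 ⟨hA χ (B.ne_principal hχ), ?_⟩
  have hq := fun (q a b : ℕ) (hq : q.Prime) (hqp : q ≠ p) (hab : ord23 = a * b) (hb : ¬ q ∣ b)
    (hc : (regPart P).card % q = 0) => not_dvd_deg hG hP B hq hqp (Nat.dvd_of_mod_eq_zero hc)
      hab hb (B.mem_or_mem hχ)
  simp only [Bool.and_eq_true, Bool.or_eq_true, Bool.not_eq_true', beq_eq_false_iff_ne,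
    decide_eq_true_eq, beq_iff_eq]
  refine ⟨⟨⟨⟨?_, ?_⟩, ?_⟩, ?_⟩, ?_⟩
  · rw [or_iff_not_imp_left, not_not]
    intro hc h
    exact hq 3 9 1133440 Nat.prime_three hp3.symm (by rw [ord23]) (by norm_num) hc
      (Nat.dvd_of_mod_eq_zero h)
  · rw [or_assoc, or_iff_not_imp_left, not_not, or_iff_not_imp_left]
    intro hc hp5 h
    exact hq 5 5 2040192 Nat.prime_five (fun e => hp5 e.symm) (by rw [ord23]) (by norm_num) hc
      (Nat.dvd_of_mod_eq_zero h)
  · rw [or_assoc, or_iff_not_imp_left, not_not, or_iff_not_imp_left]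
    intro hc hp7 h
    exact hq 7 7 1457280 (by norm_num) (fun e => hp7 e.symm) (by rw [ord23]) (by norm_num) hc
      (Nat.dvd_of_mod_eq_zero h)
  · rw [or_assoc, or_iff_not_imp_left, not_not, or_iff_not_imp_left]
    intro hc hp11 h
    exact hq 11 11 927360 (by norm_num) (fun e => hp11 e.symm) (by rw [ord23]) (by norm_num) hc
      (Nat.dvd_of_mod_eq_zero h)
  · rw [or_iff_not_imp_left, not_not]
    intro hc
    exact ⟨hz (Nat.dvd_of_mod_eq_zero hc) χ hχ, fun h => hq 2 128 79695 Nat.prime_two hodd.symm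
      (by rw [ord23]) (by norm_num) hc (Nat.dvd_of_mod_eq_zero h)⟩

/-- The first stage finds the block with the values at an involution of the regular part. -/
theorem exists_stage (hG : Nat.card G = ord23) (hodd : p ≠ 2) (hp3 : p ≠ 3) {P : Sylow p G}
    (hP : Nat.card (P : Subgroup G) = p) {e : ℕ}
    (he : (Subgroup.centralizer ((P : Subgroup G) : Set G)).relIndex
      (Subgroup.normalizer ((P : Subgroup G) : Set G)) = e)
    (hN : Nat.card (Subgroup.centralizer ((P : Subgroup G) : Set G)) * e =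
      Nat.card (Subgroup.normalizer ((P : Subgroup G) : Set G)))
    (B : Blk P e) {A : List ℕ} (hAs : A.Pairwise (· < ·))
    (hA : ∀ χ : IrrCharacter G, χ ≠ principalIrr G → dg χ ∈ A) (h2 : 2 ∣ (regPart P).card) :
    ∃ z : G, orderOf z = 2 ∧ ∃ l : List (ℕ × ℤ),
      (Nat.card (Subgroup.centralizer ({z} : Set G)), l) ∈ stage p e (regPart P).card A ∧
      (l : Multiset (ℕ × ℤ)) = items B z := by
  obtain ⟨z, hz, hzP, hcent⟩ := exists_involution hG hodd hP hN h2
  refine ⟨z, hz, ?_⟩
  obtain ⟨r, hr, ⟨R⟩⟩ := exists_row hG hodd B (allowed_sorted p _ hAs)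
    (mem_allowed hG hodd hP B hA hp3 fun _ => two_mul_lt_dg hG hodd hP B hz hzP)
  have hz1 : z ≠ 1 := fun h => by rw [h, orderOf_one] at hz; norm_num at hz
  set C := Nat.card (Subgroup.centralizer ({z} : Set G)) with hC
  have hle := centralizer_le hG hz1
  have hsum : ∑ χ ∈ B.members, (val z χ).natAbs * (val z χ).natAbs ≤ C - 1 := by
    have hni : principalIrr G ∉ B.members := fun h => B.ne_principal h rfl
    have h := sum_val_sq hG hz (insert (principalIrr G) B.members)
    rw [Finset.sum_insert hni, val_principal hG hz] at h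
    simp only [Int.natAbs_one, one_mul] at h
    omega
  obtain ⟨l, hl, hl'⟩ := exists_fill R hG hodd hP he hz (dvd_val_sub hG hodd hP B hz hzP)
    (b := C - 1) (by norm_num; omega) hsum (known := []) (by simp)
  exact ⟨l, List.mem_flatMap.2 ⟨r, hr, List.mem_flatMap.2 ⟨C, hcent, List.mem_map.2 ⟨l, hl, rfl⟩⟩⟩,
    hl'⟩

/-- The first stage by values finds something. -/
theorem exists_vstage (hG : Nat.card G = ord23) (hodd : p ≠ 2) (hp3 : p ≠ 3) {P : Sylow p G}
    (hP : Nat.card (P : Subgroup G) = p) {e : ℕ}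
    (he : (Subgroup.centralizer ((P : Subgroup G) : Set G)).relIndex
      (Subgroup.normalizer ((P : Subgroup G) : Set G)) = e)
    (hN : Nat.card (Subgroup.centralizer ((P : Subgroup G) : Set G)) * e =
      Nat.card (Subgroup.normalizer ((P : Subgroup G) : Set G)))
    (B : Blk P e) {A : List ℕ} (hAs : A.Pairwise (· < ·))
    (hA : ∀ χ : IrrCharacter G, χ ≠ principalIrr G → dg χ ∈ A) (h2 : 2 ∣ (regPart P).card) :
    vstage p e (regPart P).card A ≠ [] := by
  obtain ⟨z, hz, hzP, hcent⟩ := exists_involution hG hodd hP hN h2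
  obtain ⟨r, hr, ⟨R⟩⟩ := exists_row hG hodd B (allowed_sorted p _ hAs)
    (mem_allowed hG hodd hP B hA hp3 fun _ => two_mul_lt_dg hG hodd hP B hz hzP)
  obtain ⟨it, w, h, -⟩ := exists_filled R hG hodd hP he hz (dvd_val_sub hG hodd hP B hz hzP)
    (budget_lt hG hz) (sum_sq_le_pred hG hz fun h => B.ne_principal h rfl) (known := []) (by simp)
  obtain ⟨it', hit'⟩ := h.mem_vstage hr hcent
  exact List.ne_nil_of_mem hit'

/-- The rows are not empty. -/
theorem exists_row_allowed (hG : Nat.card G = ord23) (hodd : p ≠ 2) (hp3 : p ≠ 3) {P : Sylow p G}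
    (hP : Nat.card (P : Subgroup G) = p) {e : ℕ}
    (hN : Nat.card (Subgroup.centralizer ((P : Subgroup G) : Set G)) * e =
      Nat.card (Subgroup.normalizer ((P : Subgroup G) : Set G)))
    (B : Blk P e) {A : List ℕ} (hAs : A.Pairwise (· < ·))
    (hA : ∀ χ : IrrCharacter G, χ ≠ principalIrr G → dg χ ∈ A) :
    ∃ r ∈ rows p e (allowed p (regPart P).card A), Nonempty (RowOf B r) := by
  refine exists_row hG hodd B (allowed_sorted p _ hAs) (mem_allowed hG hodd hP B hA hp3 fun h2 => ?_)
  obtain ⟨z, hz, hzP, -⟩ := exists_involution hG hodd hP hN h2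
  exact two_mul_lt_dg hG hodd hP B hz hzP

end CfsgLib.MathieuTwentyThree.ByOrder
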