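import Cfsg.Agent.Lib.MathieuTwentyThreeOrder.ChainSearch

/-!
# The column of an involution
-/

set_option autoImplicit false

namespace CfsgLib.MathieuTwentyThree.ByOrder

/-- Every involution has the column of the Mathieu group. -/
theorem check_column : checkColumn = true := by decide +kernel

end CfsgLib.MathieuTwentyThree.ByOrder
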