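import Cfsg.Agent.Lib.MathieuTwentyThreeOrder.Arith

/-!
# The automiser and regular part at 11, and no element of order 77
-/

set_option autoImplicit false

namespace CfsgLib.MathieuTwentyThree.ByOrder

/-- The regular part at 7 has order prime to 11. -/
theorem options_seventy_seven : (optsEC 7 [23]).all (fun o => !(o.2 % 11 == 0) ||
    (rows 7 o.1 (allowed 7 o.2 degB)).isEmpty ||
    ((o.2 % 2 == 0) && (stage 7 o.1 o.2 degB).isEmpty)) = true := by decide +kernel

/-- Every option at 11 other than a self-centralising group with automiser of order 5 is empty. -/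
theorem options_eleven : (optsEC 11 [7, 23]).all (fun o => ((o.1 == 5) && (o.2 == 1)) ||
    (rows 11 o.1 (allowed 11 o.2 degB)).isEmpty ||
    ((o.2 % 2 == 0) && (stage 11 o.1 o.2 degB).isEmpty)) = true := by decide +kernel

end CfsgLib.MathieuTwentyThree.ByOrder
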