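import Cfsg.Agent.Lib.MathieuTwentyThreeOrder.ChainSearch

/-!
# The largest option at 5, other rows
-/

set_option autoImplicit false

namespace CfsgLib.MathieuTwentyThree.ByOrder

open CfsgLib.MathieuTwentyTwo.ByOrder (Row)

/-- The second row at the largest option. -/
theorem five_big_two : fiveRowOK (4, 1008) ⟨[11, 11, 759], 736, -1, 1⟩ = true := by decide +kernel

/-- The third row at the largest option. -/
theorem five_big_three : fiveRowOK (4, 1008) ⟨[11, 736, 759], 11, -1, 1⟩ = true := by decide +kernel

end CfsgLib.MathieuTwentyThree.ByOrder
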