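import Cfsg.Agent.Lib.MathieuTwentyThreeOrder.CertFiveOne
import Cfsg.Agent.Lib.MathieuTwentyThreeOrder.CertFiveTwo

/-!
# The options at 5
-/

set_option autoImplicit false

namespace CfsgLib.MathieuTwentyThree.ByOrder

open CfsgLib.MathieuTwentyTwo.ByOrder (Row)

/-- The options at 5. -/
theorem options_five_list : optsEC 5 [11, 23] =
    [(2, 1), (2, 6), (2, 16), (2, 21), (2, 36), (2, 56), (2, 96), (2, 126), (2, 336), (2, 576),
      (2, 2016), (4, 3), (4, 8), (4, 18), (4, 28), (4, 48), (4, 63), (4, 168), (4, 288),
      (4, 1008)] := by decide +kernel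

/-- The options at 5 with a small regular part. -/
theorem five_small : [(2, 1), (2, 6), (2, 16), (2, 21), (2, 36), (2, 56), (2, 96), (2, 126),
    (2, 336), (2, 576), (2, 2016), (4, 3), (4, 8), (4, 18), (4, 63), (4, 168), (4, 288)].all
      checkFive = true := by decide +kernel

/-- Two more options at 5. -/
theorem five_middle : [(4, 28), (4, 48)].all checkFive = true := by decide +kernel

theorem five_big_rows : (rows 5 4 (allowed 5 1008 degC)).all (fun x => fiveRows.contains x) = true ∧
    liveFive (4, 1008) = [⟨[11, 11, 736], 759, 1, 1⟩, ⟨[11, 11, 759], 736, -1, 1⟩,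
      ⟨[11, 736, 759], 11, -1, 1⟩] := by decide +kernel

/-- The largest option at 5. -/
theorem five_big : checkFive (4, 1008) = true := by
  simp only [checkFive, five_big_rows.1, five_big_rows.2, List.all_cons, List.all_nil,
    five_big_one, five_big_two, five_big_three, Bool.and_true, Bool.true_and, Bool.or_eq_true]
  exact Or.inr (by rfl)

/-- The options at 5. -/
theorem options_five : ∀ o ∈ optsEC 5 [11, 23], checkFive o = true := by
  intro o ho
  have key : ∀ o ∈ optsEC 5 [11, 23], o ∈ [(2, 1), (2, 6), (2, 16), (2, 21), (2, 36), (2, 56),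
      (2, 96), (2, 126), (2, 336), (2, 576), (2, 2016), (4, 3), (4, 8), (4, 18), (4, 63), (4, 168),
      (4, 288)] ∨ o ∈ [(4, 28), (4, 48)] ∨ o = (4, 1008) := by
    rw [options_five_list]; decide +kernel
  rcases key o ho with h | h | h
  · exact List.all_eq_true.1 five_small o h
  · exact List.all_eq_true.1 five_middle o h
  · rw [h]; exact five_big

end CfsgLib.MathieuTwentyThree.ByOrder
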