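import Cfsg.Agent.Lib.MathieuTwentyThreeOrder.ChainSearch

/-!
# The rows at 11 and the compatible pairs
-/

set_option autoImplicit false

namespace CfsgLib.MathieuTwentyThree.ByOrder

/-- The rows at 11. -/
theorem rows_eleven : rows 11 5 degC = rows11 := by decide +kernel

/-- The compatible pairs. -/
theorem check_pairs : checkPairs = true := by decide +kernel

end CfsgLib.MathieuTwentyThree.ByOrder
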