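import Cfsg.Agent.Lib.MathieuTwentyThreeOrder.CertSevenThree

/-!
# The options at 7
-/

set_option autoImplicit false

namespace CfsgLib.MathieuTwentyThree.ByOrder

/-- The options at 7. -/
theorem options_seven_list : optsEC 7 [11, 23] =
    [(2, 3), (2, 10), (2, 24), (2, 45), (2, 80), (2, 192), (2, 360), (2, 2880), (3, 2), (3, 16),
      (3, 30), (3, 128), (3, 240), (3, 1920), (6, 1), (6, 8), (6, 15), (6, 64), (6, 120),
      (6, 960)] := by decide +kernel

/-- The options at 7 with automiser of order 2 or a large regular part. -/
theorem seven_small : [(2, 3), (2, 10), (2, 24), (2, 45), (2, 80), (2, 192), (2, 360), (2, 2880),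
    (3, 30), (3, 240), (3, 1920), (6, 1), (6, 8)].all checkSeven = true := by decide +kernel

/-- The other options at 7. -/
theorem seven_six : [(6, 15), (6, 64)].all checkSeven = true := by decide +kernel

/-- The last options at 7. -/
theorem seven_last : [(6, 120), (6, 960)].all checkSeven = true := by decide +kernel

/-- The options at 7. -/
theorem options_seven : ∀ o ∈ optsEC 7 [11, 23], checkSeven o = true := by
  intro o ho
  have key : ∀ o ∈ optsEC 7 [11, 23], o ∈ [(2, 3), (2, 10), (2, 24), (2, 45), (2, 80), (2, 192),
      (2, 360), (2, 2880), (3, 30), (3, 240), (3, 1920), (6, 1), (6, 8)] ∨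
      o ∈ [(6, 15), (6, 64)] ∨ o ∈ [(6, 120), (6, 960)] ∨ o = (3, 2) ∨ o = (3, 16) ∨
      o = (3, 128) := by
    rw [options_seven_list]; decide +kernel
  rcases key o ho with h | h | h | h | h | h
  · exact List.all_eq_true.1 seven_small o h
  · exact List.all_eq_true.1 seven_six o h
  · exact List.all_eq_true.1 seven_last o h
  · rw [h]; exact seven_two
  · rw [h]; exact seven_sixteen
  · rw [h]; exact seven_onetwentyeight

end CfsgLib.MathieuTwentyThree.ByOrder
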