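import Cfsg.Agent.Lib.MathieuTwentyThreeOrder.ChainSearch

/-!
# The options at 7 with automiser of order 3
-/

set_option autoImplicit false

namespace CfsgLib.MathieuTwentyThree.ByOrder

/-- Regular part of order 2. -/
theorem seven_two : checkSeven (3, 2) = true := by decide +kernel

/-- Regular part of order 16. -/
theorem seven_sixteen : checkSeven (3, 16) = true := by decide +kernel

/-- Regular part of order 128. -/
theorem seven_onetwentyeight : checkSeven (3, 128) = true := by decide +kernel

end CfsgLib.MathieuTwentyThree.ByOrder
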