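import Cfsg.Agent.Lib.MathieuTwentyThreeOrder.ValueSearch

/-!
# The automiser and regular part at 23
-/

set_option autoImplicit false

namespace CfsgLib.MathieuTwentyThree.ByOrder

/-- Every option at 23 other than a self-centralising group with automiser of order 11 is empty. -/
theorem options_twentythree : (optsEC 23 []).all (fun o => ((o.1 == 11) && (o.2 == 1)) ||
    ((o.2 % 2 == 0) && (vstage 23 o.1 o.2 degA).isEmpty) ||
    (!(o.2 % 2 == 0) && (rows 23 o.1 (allowed 23 o.2 degA)).isEmpty)) = true := by decide +kernel

end CfsgLib.MathieuTwentyThree.ByOrder
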