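import Cfsg.Agent.Lib.MathieuTwentyThreeOrder.Fill
import Cfsg.Agent.Lib.MathieuTwentyThreeOrder.RowData

/-!
# Joint searches over the blocks at 23 and 11

With trivial regular parts at 23 and 11 every nonprincipal character lies in the block at 23, or is a
member of the block at 11 of degree divisible by 23, or has degree divisible by 253.
-/

set_option autoImplicit false

namespace CfsgLib.MathieuTwentyThree.ByOrder

open CfsgLib.MathieuTwentyTwo.ByOrder (Row sd degLin msets nm leL)

/-- The members of degree divisible by `q`. -/
def dv {α : Type*} (deg : α → ℕ) (q : ℕ) (L : List α) : List α := L.filter fun a => deg a % q == 0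

/-- Sum of squares of values. -/
def sqV (l : List (ℕ × ℤ)) : ℕ := (l.map vsq).sum

/-- The degrees prime to 23 are in the row at 23, those prime to 11 in the row at 11. -/
def comp (L : List ℕ) (a b : Row) : Bool := leL (nm id 23 L) a.degs && leL (nm id 11 L) b.degs

/-- Sum of squares of the degrees in the union of the two rows. -/
def sqAB (a b : Row) : ℕ :=
  (a.degs.map fun d => d * d).sum + ((dv id 23 b.degs).map fun d => d * d).sum

/-- The two rows fit together. -/
def crossOK (a b : Row) : Bool :=
  leL (nm id 11 a.degs) b.degs && leL (nm id 23 b.degs) a.degs &&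
    decide (1 + sqAB a b ≤ ord23) && ((ord23 - 1 - sqAB a b) % 64009 == 0)

/-- Degrees divisible by 11 and congruent to one or minus one modulo 23. -/
def poolA : List ℕ := [22, 231, 528, 990, 1540]

/-- The part of the row at 23 determined by the row at 11. -/
def keptA (b : Row) : List ℕ := b.degs.filter fun d => (d % 23 == 1) || (d % 23 == 22)

/-- The rows at 23 fitting with a row at 11. -/
def rowsA (b : Row) : List Row :=
  (msets (10 - (keptA b).length) poolA (ord23 - 1)).flatMap fun m => [(1 : ℤ), -1].flatMap fun ε =>
    if (2 ≤ ε * degLin 23 (keptA b ++ m)) && ((ε * degLin 23 (keptA b ++ m) - ε * 11) % (23 : ℤ) == 0) &&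
        degC.contains (ε * degLin 23 (keptA b ++ m)).toNat &&
        crossOK ⟨keptA b ++ m, (ε * degLin 23 (keptA b ++ m)).toNat, ε, 2⟩ b
    then [⟨keptA b ++ m, (ε * degLin 23 (keptA b ++ m)).toNat, ε, 2⟩] else []

/-- Centraliser orders at an involution avoiding some primes. -/
def centsAt (p e c : ℕ) (qs : List ℕ) : List ℕ :=
  (cents p e c).filter fun C => qs.all fun q => !(C % q == 0)

/-- What is left to the characters outside the union satisfies orthogonality. -/
def restOK (C : ℕ) (U : List (ℕ × ℤ)) : Bool :=
  decide (1 + (U.map fun x => x.1 * x.1).sum ≤ ord23) && decide (sqV U ≤ C - 1) &&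
    ((ord23 - 1 - (U.map fun x => x.1 * x.1).sum) % 64009 == 0) &&
    ((-1 - (U.map fun x => (x.1 : ℤ) * x.2).sum) % 253 == 0) &&
    decide ((-1 - (U.map fun x => (x.1 : ℤ) * x.2).sum) * (-1 - (U.map fun x => (x.1 : ℤ) * x.2).sum) ≤
      (((ord23 - 1 - (U.map fun x => x.1 * x.1).sum) * (C - 1 - sqV U) : ℕ) : ℤ))

/-- The values on the block at 11, the members divisible by 11 of `l` left out of the budget. -/
def fillB (C : ℕ) (b : Row) (l : List (ℕ × ℤ)) : List (List (ℕ × ℤ)) :=
  if sqV (dv Prod.fst 11 l) ≤ C - 1 then
    vfill 11 C (C - 1 - sqV (dv Prod.fst 11 l)) b (nm Prod.fst 11 l)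
  else []

/-- The values on the union of the blocks at 23 and 11 and of the given members. -/
def joinA (C : ℕ) (a : Row) (l ib : List (ℕ × ℤ)) : List (List (ℕ × ℤ)) :=
  if sqV (dv Prod.fst 23 ib) + sqV (dv Prod.fst 253 l) ≤ C - 1 then
    (vfill 23 C (C - 1 - (sqV (dv Prod.fst 23 ib) + sqV (dv Prod.fst 253 l))) a
        (nm Prod.fst 23 ib ++ dv Prod.fst 11 (nm Prod.fst 23 l))).flatMap fun ia =>
      if restOK C (ia ++ dv Prod.fst 23 ib ++ dv Prod.fst 253 l) then
        [ia ++ dv Prod.fst 23 ib ++ dv Prod.fst 253 l] else []
  else []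

/-- No values on the union for any of the rows `as` at 23 together with `b`. -/
def noChain (C : ℕ) (b : Row) (as : List Row) (l : List (ℕ × ℤ)) : Bool :=
  as.isEmpty || (fillB C b l).all fun ib => as.all fun a => (joinA C a l ib).isEmpty

/-- The degrees in the union of the two rows prime to `q` are in the row at `q`. -/
def fullAt (q : ℕ) (x a b : Row) : Bool := leL (nm id q (a.degs ++ dv id 23 b.degs)) x.degs

/-- Centraliser orders of an involution prime to 5, 7, 11 and 23. -/
def centsFree : List ℕ := divN.filter fun C => (C % 2 == 0) && (1152 % C == 0)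

/-- Centraliser orders of an involution prime to 5, 11 and 23. -/
def centsCol : List ℕ := divN.filter fun C => (C % 2 == 0) && (8064 % C == 0)

/-- The row of the Mathieu group at 23. -/
def rowA : Row := ⟨[45, 45, 896, 896, 22, 231, 231, 231, 990, 990], 770, 1, 2⟩

/-- The row of the Mathieu group at 11. -/
def rowB : Row := ⟨[45, 45, 230, 1035], 896, 1, 2⟩

/-- The block at 7 at the involution of its regular part. -/
def seed7 : List (ℕ × ℤ) := [(990, -18), (990, -18), (1035, 27), (2024, 8)]

/-- The involution column, the principal character and the character of degree 253 left out. -/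
def colItems : List (ℕ × ℤ) :=
  [(22, 6), (45, -3), (45, -3), (230, 22), (231, 7), (231, 7), (231, 7), (770, -14), (770, -14),
    (896, 0), (896, 0), (990, -18), (990, -18), (1035, 27), (2024, 8)]

/-- The rows at 5 of an option that fit with a pair. -/
def liveFive (o : ℕ × ℕ) : List Row :=
  (rows 5 o.1 (allowed 5 o.2 degC)).filter fun x => rows5.contains x

/-- A row at 5 of an option of even regular part has no values. -/
def fiveRowOK (o : ℕ × ℕ) (x : Row) : Bool :=
  (centsAt 5 o.1 o.2 [11, 23]).all fun C => (fill 5 o.1 o.2 20 C (C - 1) x []).all fun l =>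
    pairs5.all fun q => noChain C q.1 (q.2.filter fun a => comp (l.map Prod.fst) a q.1) l

/-- The options left at 5, or a reason to drop one. -/
def checkFive (o : ℕ × ℕ) : Bool :=
  (rows 5 o.1 (allowed 5 o.2 degC)).all (fun x => fiveRows.contains x) &&
    (((o.1 == 4) && !(o.2 % 2 == 0)) || (liveFive o).isEmpty ||
      ((o.2 % 2 == 0) && (liveFive o).all (fiveRowOK o)))

/-- The rows at 7 of an option that fit with a pair. -/
def liveSeven (o : ℕ × ℕ) : List Row :=
  (rows 7 o.1 (allowed 7 o.2 degC)).filter fun x => pairs5.any fun q => q.2.any fun a =>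
    comp x.degs a q.1

/-- The rows at 23 that go with `b` and some row at 7 of the option. -/
def partners (o : ℕ × ℕ) (L : List Row) (q : Row × List Row) : List Row :=
  q.2.filter fun a => L.any fun x => comp x.degs a q.1 && (!(o.2 == 1) || fullAt 7 x a q.1)

/-- The seed at 7 of the Mathieu group. -/
def seedOK (o : ℕ × ℕ) (C : ℕ) (a b : Row) (l : List (ℕ × ℤ)) : Bool :=
  (o.1 == 3) && [2, 16, 128].contains o.2 && (a == rowA) && (b == rowB) && (C == 2688) &&
    l.isPerm seed7

/-- A row at 7 of an option of even regular part has only the values of the Mathieu group. -/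
def sevenRowOK (o : ℕ × ℕ) (x : Row) : Bool :=
  (centsAt 7 o.1 o.2 [5, 11, 23]).all fun C => (fill 7 o.1 o.2 28 C (C - 1) x []).all fun l =>
    pairs5.all fun q =>
      noChain C q.1 (q.2.filter fun a => comp (l.map Prod.fst) a q.1 && !seedOK o C a q.1 l) l

/-- The options left at 7, or a reason to drop one. -/
def checkSeven (o : ℕ × ℕ) : Bool :=
  (liveSeven o).isEmpty ||
    (!(o.2 % 2 == 0) && pairs5.all fun q => match partners o (liveSeven o) q with
      | [] => true
      | a :: as => centsFree.all fun C => noChain C q.1 (a :: as) []) ||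
    ((o.2 % 2 == 0) && (liveSeven o).all (sevenRowOK o))

/-- The column of an involution, given the character of degree 2024. -/
def checkColumn : Bool :=
  centsCol.all fun C => (opts 4 C (C - 1) 2024).all fun w =>
    (fillB C rowB [(2024, w)]).all fun ib => (joinA C rowA [(2024, w)] ib).all fun U =>
      !decide ((-1 - (U.map fun x => (x.1 : ℤ) * x.2).sum) * (-1 - (U.map fun x => (x.1 : ℤ) * x.2).sum) =
        ((64009 * (C - 1 - sqV U) : ℕ) : ℤ)) ||
      ((C == 2688) && U.isPerm colItems)

/-- The compatible pairs are recorded. -/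
def checkPairs : Bool :=
  rows11.all fun b => match fiveRows.filter fun x => leL (nm id 11 x.degs) b.degs with
    | [] => true
    | x :: xs => (rowsA b).all fun a => (x :: xs).all fun y => !leL (nm id 23 y.degs) a.degs ||
      (rows5.contains y && pairs5.any fun q => (q.1 == b) && q.2.contains a)

end CfsgLib.MathieuTwentyThree.ByOrder
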