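import Cfsg.Agent.Lib.MathieuTwentyThreeOrder.Large
import Cfsg.Agent.Lib.MathieuTwentyThreeOrder.ChainSearch

/-!
# The blocks at 23 and 11 give the joint searches

Every nonprincipal character outside the block at 23 and the members of the block at 11 of degree
divisible by 23 has degree divisible by 253, which restricts what the union of the blocks leaves.
-/

set_option autoImplicit false
set_option linter.style.haveILetI false
set_option linter.unusedSectionVars false

noncomputable section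

namespace CfsgLib.MathieuTwentyThree.ByOrder

open Cfsg CfsgLib.Characters CfsgLib.CharCorr
open CfsgLib.MathieuTwentyTwo.ByOrder (regPart Blk val charDegree_principal dg pr RowOf
  exists_map_eq items Row sd degLin msets mem_msets nm leL leL_of_le)
open scoped ComplexConjugate Classical

universe u

theorem coe_dv {α : Type*} (deg : α → ℕ) (q : ℕ) (L : List α) :
    ((dv deg q L : List α) : Multiset α) = (L : Multiset α).filter (fun a => q ∣ deg a) := by
  rw [dv, Multiset.filter_coe]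
  exact congrArg _ (List.filter_congr fun a _ => by
    rw [Bool.eq_iff_iff]; simp [Nat.dvd_iff_mod_eq_zero])

variable {G : Type u} [Group G] [Fintype G]

theorem sum_coe_eq {α M : Type*} [AddCommMonoid M] {U : List α} {T : Finset (IrrCharacter G)}
    {g : IrrCharacter G → α} (h : (U : Multiset α) = T.val.map g) (f : α → M) :
    (U.map f).sum = ∑ χ ∈ T, f (g χ) := by
  rw [← Multiset.sum_coe, ← Multiset.map_coe, h, Multiset.map_map]
  rfl

theorem filter_dg {T : Finset (IrrCharacter G)} {L : List ℕ}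
    (h : (L : Multiset ℕ) = T.val.map dg) (P : ℕ → Prop) {_ : DecidablePred P} :
    (L : Multiset ℕ).filter P = (T.filter fun χ => P (dg χ)).val.map dg := by
  rw [h, Multiset.filter_map, Finset.filter_val]
  exact congrArg _ (Multiset.filter_congr fun _ _ => Iff.rfl)

theorem filter_pr {T : Finset (IrrCharacter G)} {z : G} {l : List (ℕ × ℤ)}
    (h : (l : Multiset (ℕ × ℤ)) = T.val.map (pr z)) (P : ℕ → Prop)
    {_ : DecidablePred fun a : ℕ × ℤ => P a.1} {_ : DecidablePred fun χ : IrrCharacter G => P (dg χ)} :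
    (l : Multiset (ℕ × ℤ)).filter (fun a => P a.1) =
      (T.filter fun χ => P (dg χ)).val.map (pr z) := by
  rw [h, Multiset.filter_map, Finset.filter_val]
  exact congrArg _ (Multiset.filter_congr fun _ _ => Iff.rfl)

theorem sum_split_rest {M : Type*} [AddCommMonoid M] {T : Finset (IrrCharacter G)}
    (hT : principalIrr G ∉ T) (F : IrrCharacter G → M) :
    ∑ χ, F χ = F (principalIrr G) + ∑ χ ∈ T, F χ + ∑ χ ∈ (insert (principalIrr G) T)ᶜ, F χ := by
  rw [← Finset.sum_insert hT, Finset.sum_add_sum_compl]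

/-- The rows of a block can be reordered. -/
theorem rowOf_perm {p : ℕ} [Fact p.Prime] {P : Sylow p G} {e : ℕ} {B : Blk P e} {r : Row}
    (R : RowOf B r) {ds : List ℕ} (h : ds.Perm r.ds) :
    Nonempty (RowOf B ⟨ds, r.x, r.eps, r.t⟩) := by
  obtain ⟨cs, hcs, hds⟩ := exists_map_eq dg ds (B.X.erase (principalIrr G)).val (by
    rw [← R.cs_eq, Multiset.map_coe, R.ds_eq]
    exact Quot.sound h)
  exact ⟨⟨cs, R.ψ, hcs, R.ψ_mem, hds, R.x_eq, R.eps_eq, R.t_eq⟩⟩

variable [IsSimpleGroup G]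

section rest

variable {T : Finset (IrrCharacter G)}

theorem rest_deg (hG : Nat.card G = ord23) (hT : principalIrr G ∉ T) :
    1 + ∑ χ ∈ T, dg χ * dg χ + ∑ χ ∈ (insert (principalIrr G) T)ᶜ, dg χ * dg χ = ord23 := by
  have h := sum_split_rest hT fun χ : IrrCharacter G => dg χ * dg χ
  rw [show dg (principalIrr G : IrrCharacter G) = 1 from charDegree_principal, one_mul] at h
  rw [← h]
  exact sum_deg_sq hG

theorem rest_val_sq (hG : Nat.card G = ord23) {z : G} (hz : orderOf z = 2)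
    (hT : principalIrr G ∉ T) :
    1 + ∑ χ ∈ T, (val z χ).natAbs * (val z χ).natAbs +
      ∑ χ ∈ (insert (principalIrr G) T)ᶜ, (val z χ).natAbs * (val z χ).natAbs =
      Nat.card (Subgroup.centralizer ({z} : Set G)) := by
  have h := sum_split_rest hT fun χ : IrrCharacter G => (val z χ).natAbs * (val z χ).natAbs
  rw [val_principal hG hz, Int.natAbs_one, one_mul] at h
  rw [← h]
  have h2 := MathieuTwelve.sum_sq_eq z (v := val z) (apply_eq_val hG hz)
  zify
  simpa only [abs_mul_abs_self] using h2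

theorem sum_deg_val (hG : Nat.card G = ord23) {z : G} (hz : orderOf z = 2) :
    ∑ χ : IrrCharacter G, (dg χ : ℤ) * val z χ = 0 := by
  have h := column_orth z (1 : G)
  rw [if_neg fun hc => by
    rw [isConj_one_left] at hc
    rw [hc, orderOf_one] at hz
    norm_num at hz] at h
  simp only [irr_one_eq_charDegree, map_natCast, apply_eq_val hG hz] at h
  apply Int.cast_injective (α := ℂ)
  push_cast
  rw [← h]
  exact Finset.sum_congr rfl fun χ _ => mul_comm _ _

theorem rest_deg_val (hG : Nat.card G = ord23) {z : G} (hz : orderOf z = 2)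
    (hT : principalIrr G ∉ T) :
    1 + ∑ χ ∈ T, (dg χ : ℤ) * val z χ +
      ∑ χ ∈ (insert (principalIrr G) T)ᶜ, (dg χ : ℤ) * val z χ = 0 := by
  have h := sum_split_rest hT fun χ : IrrCharacter G => (dg χ : ℤ) * val z χ
  rw [val_principal hG hz, show dg (principalIrr G : IrrCharacter G) = 1 from charDegree_principal,
    Nat.cast_one, one_mul, sum_deg_val hG hz] at h
  exact h.symm

theorem rest_dvd (hG : Nat.card G = ord23) (hT : principalIrr G ∉ T)
    (hcov : ∀ χ : IrrCharacter G, χ ≠ principalIrr G → χ ∉ T → 253 ∣ dg χ) :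
    1 + ∑ χ ∈ T, dg χ * dg χ ≤ ord23 ∧ 64009 ∣ ord23 - 1 - ∑ χ ∈ T, dg χ * dg χ := by
  have h := rest_deg hG hT
  refine ⟨by omega, ?_⟩
  rw [show ord23 - 1 - ∑ χ ∈ T, dg χ * dg χ =
    ∑ χ ∈ (insert (principalIrr G) T)ᶜ, dg χ * dg χ by omega]
  refine Finset.dvd_sum fun χ hχ => ?_
  rw [Finset.mem_compl, Finset.mem_insert, not_or] at hχ
  exact (show 253 * 253 ∣ dg χ * dg χ from mul_dvd_mul (hcov χ hχ.1 hχ.2) (hcov χ hχ.1 hχ.2))

/-- The orthogonality relations restrict the values on `T`. -/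
theorem restOK_eq (hG : Nat.card G = ord23) {z : G} (hz : orderOf z = 2)
    (hT : principalIrr G ∉ T)
    (hcov : ∀ χ : IrrCharacter G, χ ≠ principalIrr G → χ ∉ T → 253 ∣ dg χ)
    {U : List (ℕ × ℤ)} (hU : (U : Multiset (ℕ × ℤ)) = T.val.map (pr z)) :
    restOK (Nat.card (Subgroup.centralizer ({z} : Set G))) U = true := by
  obtain ⟨h1, h2⟩ := rest_dvd hG hT hcov
  have e1 := rest_deg hG hT
  have e2 := rest_val_sq hG hz hT
  have e3 := rest_deg_val hG hz hT
  simp only [restOK, sqV, sum_coe_eq hU, vsq, pr, Bool.and_eq_true, decide_eq_true_eq, beq_iff_eq]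
  set R := (insert (principalIrr G) T)ᶜ with hR
  have hs : -1 - ∑ χ ∈ T, (dg χ : ℤ) * val z χ = ∑ χ ∈ R, (dg χ : ℤ) * val z χ := by linarith
  refine ⟨⟨⟨⟨h1, by omega⟩, Nat.mod_eq_zero_of_dvd h2⟩, ?_⟩, ?_⟩
  · rw [hs]
    refine Int.emod_eq_zero_of_dvd (Finset.dvd_sum fun χ hχ => ?_)
    rw [hR, Finset.mem_compl, Finset.mem_insert, not_or] at hχ
    exact dvd_mul_of_dvd_left (by exact_mod_cast hcov χ hχ.1 hχ.2) _
  · rw [hs, show ord23 - 1 - ∑ χ ∈ T, dg χ * dg χ = ∑ χ ∈ R, dg χ * dg χ by omega,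
      show Nat.card (Subgroup.centralizer ({z} : Set G)) - 1 -
          ∑ χ ∈ T, (val z χ).natAbs * (val z χ).natAbs =
        ∑ χ ∈ R, (val z χ).natAbs * (val z χ).natAbs by omega]
    have := Finset.sum_mul_sq_le_sq_mul_sq R (fun χ => (dg χ : ℤ)) (fun χ => val z χ)
    push_cast
    simp only [abs_mul_abs_self]
    simpa only [sq] using this

end rest

section frame

variable [Fact (Nat.Prime 11)] [Fact (Nat.Prime 23)]

/-- The blocks at 11 and 23 with their rows. -/
structure Frame (G : Type u) [Group G] [Fintype G] [Fact (Nat.Prime 11)] [Fact (Nat.Prime 23)] where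
  /-- the Sylow subgroup at 11 -/
  P₁ : Sylow 11 G
  /-- the block at 11 -/
  B₁ : Blk P₁ 5
  /-- its row -/
  b : Row
  /-- the row is that of the block -/
  R₁ : RowOf B₁ b
  c₁ : (regPart P₁).card = 1
  rel₁ : (Subgroup.centralizer ((P₁ : Subgroup G) : Set G)).relIndex
    (Subgroup.normalizer ((P₁ : Subgroup G) : Set G)) = 5
  /-- the Sylow subgroup at 23 -/
  P₂ : Sylow 23 G
  /-- the block at 23 -/
  B₂ : Blk P₂ 11
  /-- its row -/
  a : Row
  /-- the row is that of the block -/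
  R₂ : RowOf B₂ a
  c₂ : (regPart P₂).card = 1
  rel₂ : (Subgroup.centralizer ((P₂ : Subgroup G) : Set G)).relIndex
    (Subgroup.normalizer ((P₂ : Subgroup G) : Set G)) = 11
  b_mem : b ∈ rows11
  a_mem : a ∈ rowsA b

namespace Frame

variable (F : Frame G)

/-- The union of the block at 23 and the members of degree divisible by 23 of the block at 11. -/
def base : Finset (IrrCharacter G) := F.B₂.members ∪ F.B₁.members.filter fun χ => 23 ∣ dg χ

end Frame

theorem principal_notMem_union {P₁ : Sylow 11 G} (B₁ : Blk P₁ 5) {P₂ : Sylow 23 G}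
    (B₂ : Blk P₂ 11) : principalIrr G ∉ B₂.members ∪ B₁.members.filter fun χ => 23 ∣ dg χ :=
  fun h => (Finset.mem_union.1 h).elim (fun h => B₂.ne_principal h rfl)
    fun h => B₁.ne_principal (Finset.mem_filter.1 h).1 rfl

theorem cover_union {P₁ : Sylow 11 G} (B₁ : Blk P₁ 5) (hc₁ : (regPart P₁).card = 1)
    {P₂ : Sylow 23 G} (B₂ : Blk P₂ 11) (hc₂ : (regPart P₂).card = 1) {χ : IrrCharacter G}
    (hne : χ ≠ principalIrr G)
    (h : χ ∉ B₂.members ∪ B₁.members.filter fun χ => 23 ∣ dg χ) : 253 ∣ dg χ := by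
  rw [Finset.mem_union, not_or] at h
  have h23 : 23 ∣ dg χ := by
    by_contra hd
    exact h.1 (filter_subset B₂ hc₂ (S := {χ}) (by simpa using hne)
      (Finset.mem_filter.2 ⟨Finset.mem_singleton_self χ, hd⟩))
  have h11 : 11 ∣ dg χ := by
    by_contra hd
    exact h.2 (Finset.mem_filter.2 ⟨filter_subset B₁ hc₁ (S := {χ}) (by simpa using hne)
      (Finset.mem_filter.2 ⟨Finset.mem_singleton_self χ, hd⟩), h23⟩)
  exact Nat.Coprime.mul_dvd_of_dvd_of_dvd (m := 11) (n := 23) (by norm_num) h11 h23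

theorem disjoint_base {P₁ : Sylow 11 G} (B₁ : Blk P₁ 5) {P₂ : Sylow 23 G} (B₂ : Blk P₂ 11) :
    Disjoint B₂.members (B₁.members.filter fun χ => 23 ∣ dg χ) :=
  Finset.disjoint_left.2 fun χ h1 h2 =>
    not_dvd_dg B₂ (by norm_num) h1 (Finset.mem_filter.1 h2).2

theorem pool_eq : (degC.filter fun d => (d % 11 == 0) && ((d % 23 == 1) || (d % 23 + 1 == 23))) =
    poolA := by decide +kernel

/-- The blocks at 11 and 23 give a frame. -/
theorem exists_frame (hG : Nat.card G = ord23) (hrows : rows 11 5 degC = rows11) :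
    Nonempty (Frame G) := by
  obtain ⟨P₁, hc₁, hrel₁, B₁, -⟩ := exists_blk_eleven hG
  obtain ⟨P₂, hc₂, hrel₂, B₂, -⟩ := exists_blk_twentythree hG
  obtain ⟨b, hb, ⟨R₁⟩⟩ := exists_row hG (by norm_num) B₁ degC_sorted
    fun χ hχ => dg_mem_degC hG (B₁.ne_principal hχ)
  obtain ⟨r, hr, ⟨R₂⟩⟩ := exists_row hG (by norm_num) B₂ degC_sorted
    fun χ hχ => dg_mem_degC hG (B₂.ne_principal hχ)
  set X := B₂.X.erase (principalIrr G) with hX
  have hmod : ∀ χ ∈ X, dg χ % 23 = 1 ∨ dg χ % 23 + 1 = 23 := fun χ hχ =>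
    (B₂.mod_sgn (by norm_num) (Finset.mem_erase.1 hχ).2).1
  have hds : ((r.ds : List ℕ) : Multiset ℕ) = X.val.map dg := by
    rw [← R₂.cs_eq, Multiset.map_coe, R₂.ds_eq]
  have hkept : ((keptA b : List ℕ) : Multiset ℕ) = (r.ds : Multiset ℕ).filter (fun d => ¬ 11 ∣ d) := by
    have hf : ((keptA b : List ℕ) : Multiset ℕ) =
        (b.degs : Multiset ℕ).filter (fun d => d % 23 = 1 ∨ d % 23 + 1 = 23) := by
      rw [keptA, Multiset.filter_coe]
      exact congrArg _ (List.filter_congr fun d _ => by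
        rw [Bool.eq_iff_iff]; simp only [Bool.or_eq_true, beq_iff_eq, decide_eq_true_eq]; omega)
    rw [hf, filter_dg (degs_eq R₁), filter_dg hds]
    congr 2
    ext χ
    simp only [Finset.mem_filter]
    constructor
    · rintro ⟨h1, h2⟩
      refine ⟨Finset.mem_erase.2 ⟨B₁.ne_principal h1, ?_⟩, not_dvd_dg B₁ (by norm_num) h1⟩
      by_contra hn
      by_cases hY : χ ∈ B₂.Y
      · obtain ⟨k, hk⟩ := B₂.degY χ hY
        simp only [dg] at h2
        rcases B₂.ε_spec with hε | hε <;> rw [hε] at hk <;> omega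
      · have := B₂.dvd_other hc₂ χ hn hY
        simp only [dg] at h2
        omega
    · rintro ⟨h1, h2⟩
      exact ⟨filter_subset B₁ hc₁ (S := {χ}) (by simpa using (Finset.mem_erase.1 h1).1)
        (Finset.mem_filter.2 ⟨Finset.mem_singleton_self χ, h2⟩), hmod χ h1⟩
  set M := r.ds.filter fun d => d % 11 == 0 with hM
  have hMc : ((M : List ℕ) : Multiset ℕ) = (r.ds : Multiset ℕ).filter (fun d => 11 ∣ d) := by
    rw [hM, Multiset.filter_coe]
    exact congrArg _ (List.filter_congr fun d _ => by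
      rw [Bool.eq_iff_iff]; simp [Nat.dvd_iff_mod_eq_zero])
  have hperm : (keptA b ++ M).Perm r.ds := Multiset.coe_eq_coe.1 (by
    rw [← Multiset.coe_add, hkept, hMc, add_comm]
    exact Multiset.filter_add_not _ _)
  have hlen : M.length = 10 - (keptA b).length := by
    have h1 := hperm.length_eq
    have h2 : r.ds.length = 10 := by
      have := congrArg Multiset.card hds
      rw [Multiset.coe_card, Multiset.card_map, Finset.card_val, hX,
        Finset.card_erase_of_mem B₂.one_mem, B₂.card_X] at this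
      exact this
    rw [List.length_append] at h1
    omega
  have hMmem : ∀ d ∈ M, d ∈ poolA := by
    intro d hd
    rw [hM, List.mem_filter] at hd
    obtain ⟨χ, hχ, rfl⟩ : ∃ χ ∈ X, dg χ = d := by
      have : d ∈ (r.ds : Multiset ℕ) := hd.1
      rw [hds, Multiset.mem_map] at this
      exact this
    rw [← pool_eq, List.mem_filter]
    refine ⟨dg_mem_degC hG (Finset.mem_erase.1 hχ).1, ?_⟩
    simp only [Bool.and_eq_true, Bool.or_eq_true, hd.2, beq_iff_eq, true_and]
    exact hmod χ hχ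
  obtain ⟨ds', hds', hr'⟩ := List.mem_flatMap.1 hr
  obtain ⟨ε, hε, hr'⟩ := List.mem_flatMap.1 hr'
  split_ifs at hr' with hcond
  swap
  · exact absurd hr' List.not_mem_nil
  rw [List.mem_singleton] at hr'
  subst hr'
  simp only [Bool.and_eq_true, decide_eq_true_eq, beq_iff_eq, List.contains_iff_mem] at hcond
  obtain ⟨⟨⟨h2, hp⟩, hx⟩, hN⟩ := hcond
  obtain ⟨m, hm, hmM⟩ := mem_msets (10 - (keptA b).length) poolA (ord23 - 1) M
    (by decide +kernel) hlen hMmem (by
      have hsub : (M.map fun d => d * d).sum ≤ (ds'.map fun d => d * d).sum :=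
        ((List.filter_sublist (p := fun d => d % 11 == 0) (l := ds')).map fun d => d * d).sum_le_sum
          fun _ _ => Nat.zero_le _
      omega)
  have hperm' : (keptA b ++ m).Perm ds' := (hmM.append_left _).trans hperm
  obtain ⟨R₂'⟩ : Nonempty (RowOf B₂
      ⟨keptA b ++ m, (ε * degLin 23 ds').toNat, ε, (23 - 1) / 11⟩) := rowOf_perm R₂ hperm'
  have hlin : degLin 23 (keptA b ++ m) = degLin 23 ds' := by
    simp only [degLin]; rw [(hperm'.map _).sum_eq]
  have h22 : (23 - 1) / 11 = 2 := by norm_num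
  refine ⟨⟨P₁, B₁, b, R₁, hc₁, hrel₁, P₂, B₂, _, R₂', hc₂, hrel₂, hrows ▸ hb, ?_⟩⟩
  refine List.mem_flatMap.2 ⟨m, hm, List.mem_flatMap.2 ⟨ε, hε, ?_⟩⟩
  rw [hlin, if_pos]
  · rw [List.mem_singleton]
  · have hdisj := disjoint_base B₁ B₂
    obtain ⟨hsum, hdvd⟩ := rest_dvd hG (principal_notMem_union B₁ B₂)
      fun χ hne h => cover_union B₁ hc₁ B₂ hc₂ hne h
    have hd2 := degs_eq R₂'
    have hd1 := degs_eq R₁
    have hsq : sqAB ⟨keptA b ++ m, (ε * degLin 23 ds').toNat, ε, (23 - 1) / 11⟩ b =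
        ∑ χ ∈ B₂.members ∪ B₁.members.filter (fun χ => 23 ∣ dg χ), dg χ * dg χ := by
      rw [Finset.sum_union hdisj, sqAB, sum_coe_eq hd2]
      congr 1
      refine sum_coe_eq ?_ (fun d => d * d)
      rw [coe_dv]
      exact filter_dg hd1 (fun d => 23 ∣ d)
    rw [h22] at hsq hd2
    simp only [Bool.and_eq_true, decide_eq_true_eq, beq_iff_eq, List.contains_iff_mem, crossOK]
    refine ⟨⟨⟨h2, hp⟩, hx⟩, ⟨⟨leL_of_le ?_, leL_of_le ?_⟩, by rw [hsq]; exact hsum⟩,
      by rw [hsq]; exact Nat.mod_eq_zero_of_dvd hdvd⟩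
    · rw [coe_nm, filter_dg hd2, hd1]
      exact Multiset.map_le_map (Finset.val_le_iff.2
        (filter_subset B₁ hc₁ fun χ h => B₂.ne_principal h))
    · rw [coe_nm, filter_dg hd1, hd2]
      exact Multiset.map_le_map (Finset.val_le_iff.2
        (filter_subset B₂ hc₂ fun χ h => B₁.ne_principal h))

namespace Frame

variable (F : Frame G)

theorem sq_eq : ∑ χ ∈ F.base, dg χ * dg χ = sqAB F.a F.b := by
  rw [base, Finset.sum_union (disjoint_base F.B₁ F.B₂), sqAB, sum_coe_eq (degs_eq F.R₂)]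
  congr 1
  refine (sum_coe_eq ?_ (fun d => d * d)).symm
  rw [coe_dv]
  exact filter_dg (degs_eq F.R₁) (fun d => 23 ∣ d)

/-- The degrees of any nonprincipal characters fit the rows. -/
theorem comp_eq {S : Finset (IrrCharacter G)} (hS : ∀ χ ∈ S, χ ≠ principalIrr G) {L : List ℕ}
    (hL : (L : Multiset ℕ) = S.val.map dg) : comp L F.a F.b = true := by
  simp only [comp, Bool.and_eq_true]
  constructor
  · refine leL_of_le ?_
    rw [coe_nm, filter_dg hL, degs_eq F.R₂]
    exact Multiset.map_le_map (Finset.val_le_iff.2 (filter_subset F.B₂ F.c₂ hS))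
  · refine leL_of_le ?_
    rw [coe_nm, filter_dg hL, degs_eq F.R₁]
    exact Multiset.map_le_map (Finset.val_le_iff.2 (filter_subset F.B₁ F.c₁ hS))

/-- The values at an involution on the union of the blocks and given characters are found. -/
theorem exists_chain (hG : Nat.card G = ord23) {z : G} (hz : orderOf z = 2)
    {S : Finset (IrrCharacter G)} (hS : ∀ χ ∈ S, χ ≠ principalIrr G) {l : List (ℕ × ℤ)}
    (hl : (l : Multiset (ℕ × ℤ)) = S.val.map (pr z)) :
    ∃ ib ∈ fillB (Nat.card (Subgroup.centralizer ({z} : Set G))) F.b l,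
      ∃ U ∈ joinA (Nat.card (Subgroup.centralizer ({z} : Set G))) F.a l ib,
        (U : Multiset (ℕ × ℤ)) = (F.base ∪ S.filter fun χ => 253 ∣ dg χ).val.map (pr z) := by
  set C := Nat.card (Subgroup.centralizer ({z} : Set G)) with hC
  have hSp : principalIrr G ∉ S := fun h => hS _ h rfl
  have hpos : ∀ {p : ℕ} [Fact p.Prime] {P : Sylow p G} {e : ℕ} {B : Blk P e} {r : Row},
      RowOf B r → ∀ d ∈ r.ds, 0 < d := by
    intro p _ P e B r R d hd
    rw [← R.ds_eq, List.mem_map] at hd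
    obtain ⟨χ, -, rfl⟩ := hd
    exact (ClassCount.degree_eq χ).2.2
  have hsqV : ∀ {T : Finset (IrrCharacter G)} {U : List (ℕ × ℤ)},
      (U : Multiset (ℕ × ℤ)) = T.val.map (pr z) →
        sqV U = ∑ χ ∈ T, (val z χ).natAbs * (val z χ).natAbs := fun h => by
    simp only [sqV, sum_coe_eq h, vsq, pr]
  -- the block at 11
  have hd1 : Disjoint F.B₁.members (S.filter fun χ => 11 ∣ dg χ) :=
    Finset.disjoint_left.2 fun χ h1 h2 =>
      not_dvd_dg F.B₁ (by norm_num) h1 (Finset.mem_filter.1 h2).2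
  have hb1 := sum_sq_le_pred hG hz (S := F.B₁.members ∪ S.filter fun χ => 11 ∣ dg χ)
    fun h => (Finset.mem_union.1 h).elim (fun h => F.B₁.ne_principal h rfl)
      fun h => hSp (Finset.mem_filter.1 h).1
  rw [Finset.sum_union hd1] at hb1
  have hl11 : ((dv Prod.fst 11 l : List (ℕ × ℤ)) : Multiset (ℕ × ℤ)) =
      (S.filter fun χ => 11 ∣ dg χ).val.map (pr z) := by
    rw [coe_dv]; exact filter_pr hl (fun d => 11 ∣ d)
  rw [← hsqV hl11] at hb1
  have hlt := budget_lt hG hz
  rw [← hC] at hb1 hlt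
  obtain ⟨it, w, hF, hit⟩ := exists_filled F.R₁ hG (by norm_num)
    (card_sylow_eq hG (by simp) F.P₁) F.rel₁ hz (mo := 4)
    (fun χ hχ => (val_bound hG hz (F.B₁.ne_principal hχ)).2)
    (b := C - 1 - sqV (dv Prod.fst 11 l)) (by omega) (by omega)
    (known := nm Prod.fst 11 l) (by
      rw [coe_nm, hl]
      exact filter_items_le F.B₁ F.c₁ hS z)
  obtain ⟨ib, hib, hibp⟩ := hF.mem_vfill (F.R₁.eps_eq ▸ F.B₁.ε_spec) (by norm_num)
    (hpos F.R₁)
  have hibm : (ib : Multiset (ℕ × ℤ)) = F.B₁.members.val.map (pr z) :=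
    (Multiset.coe_eq_coe.2 hibp).trans hit
  refine ⟨ib, by rw [fillB, if_pos (by omega)]; exact hib, ?_⟩
  -- the block at 23
  have hd2 : Disjoint F.base (S.filter fun χ => 253 ∣ dg χ) := by
    refine Finset.disjoint_left.2 fun χ h1 h2 => ?_
    have h2' := (Finset.mem_filter.1 h2).2
    rcases Finset.mem_union.1 h1 with h1 | h1
    · exact not_dvd_dg F.B₂ (by norm_num) h1 (dvd_trans (by norm_num) h2')
    · exact not_dvd_dg F.B₁ (by norm_num) (Finset.mem_filter.1 h1).1
        (dvd_trans (by norm_num) h2')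
  set T := F.base ∪ S.filter fun χ => 253 ∣ dg χ with hTdef
  have hT : principalIrr G ∉ T := fun h => (Finset.mem_union.1 h).elim
    (principal_notMem_union F.B₁ F.B₂) fun h => hSp (Finset.mem_filter.1 h).1
  have hb2 := sum_sq_le_pred hG hz (S := T) hT
  rw [Finset.sum_union hd2, base, Finset.sum_union (disjoint_base F.B₁ F.B₂)] at hb2
  have hib23 : ((dv Prod.fst 23 ib : List (ℕ × ℤ)) : Multiset (ℕ × ℤ)) =
      (F.B₁.members.filter fun χ => 23 ∣ dg χ).val.map (pr z) := by
    rw [coe_dv]; exact filter_pr hibm (fun d => 23 ∣ d)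
  have hl253 : ((dv Prod.fst 253 l : List (ℕ × ℤ)) : Multiset (ℕ × ℤ)) =
      (S.filter fun χ => 253 ∣ dg χ).val.map (pr z) := by
    rw [coe_dv]; exact filter_pr hl (fun d => 253 ∣ d)
  rw [← hsqV hib23, ← hsqV hl253, ← hC] at hb2
  have hk : ((nm Prod.fst 23 ib ++ dv Prod.fst 11 (nm Prod.fst 23 l) : List (ℕ × ℤ)) :
      Multiset (ℕ × ℤ)) ≤ items F.B₂ z := by
    have hdk : Disjoint (F.B₁.members.filter fun χ => ¬ 23 ∣ dg χ)
        ((S.filter fun χ => ¬ 23 ∣ dg χ).filter fun χ => 11 ∣ dg χ) :=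
      Finset.disjoint_left.2 fun χ h1 h2 =>
        not_dvd_dg F.B₁ (by norm_num) (Finset.mem_filter.1 h1).1 (Finset.mem_filter.1 h2).2
    have e1 : ((nm Prod.fst 23 l : List (ℕ × ℤ)) : Multiset (ℕ × ℤ)) =
        (S.filter fun χ => ¬ 23 ∣ dg χ).val.map (pr z) := by
      rw [coe_nm]; exact filter_pr hl (fun d => ¬ 23 ∣ d)
    rw [← Multiset.coe_add, coe_nm, coe_dv, filter_pr hibm (fun d => ¬ 23 ∣ d),
      filter_pr e1 (fun d => 11 ∣ d), ← Multiset.map_add, ← Finset.disjUnion_val _ _ hdk]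
    refine Multiset.map_le_map (Finset.val_le_iff.2 fun χ hχ => ?_)
    rcases Finset.mem_disjUnion.1 hχ with h | h
    · exact filter_subset F.B₂ F.c₂ (S := F.B₁.members) (fun _ h => F.B₁.ne_principal h) h
    · exact filter_subset F.B₂ F.c₂ hS (Finset.mem_filter.1 h).1
  obtain ⟨it2, w2, hF2, hit2⟩ := exists_filled F.R₂ hG (by norm_num)
    (card_sylow_eq hG (by simp) F.P₂) F.rel₂ hz (mo := 4)
    (fun χ hχ => (val_bound hG hz (F.B₂.ne_principal hχ)).2)
    (b := C - 1 - (sqV (dv Prod.fst 23 ib) + sqV (dv Prod.fst 253 l))) (by omega) (by omega) hk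
  obtain ⟨ia, hia, hiap⟩ := hF2.mem_vfill (F.R₂.eps_eq ▸ F.B₂.ε_spec) (by norm_num)
    (hpos F.R₂)
  have hU : ((ia ++ dv Prod.fst 23 ib ++ dv Prod.fst 253 l : List (ℕ × ℤ)) :
      Multiset (ℕ × ℤ)) = T.val.map (pr z) := by
    rw [hTdef, ← Finset.disjUnion_eq_union _ _ hd2, Finset.disjUnion_val, base,
      ← Finset.disjUnion_eq_union _ _ (disjoint_base F.B₁ F.B₂), Finset.disjUnion_val,
      Multiset.map_add, Multiset.map_add, ← hib23, ← hl253, ← Multiset.coe_add,
      ← Multiset.coe_add, (Multiset.coe_eq_coe.2 hiap).trans hit2, items]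
  refine ⟨_, ?_, hU⟩
  rw [joinA, if_pos (by omega)]
  refine List.mem_flatMap.2 ⟨ia, hia, ?_⟩
  rw [if_pos]
  · exact List.mem_singleton.2 rfl
  · exact restOK_eq hG hz hT
      (fun χ hne h => cover_union F.B₁ F.c₁ F.B₂ F.c₂ hne fun h' => h (Finset.mem_union_left _ h')) hU

/-- A search without values is impossible. -/
theorem noChain_false (hG : Nat.card G = ord23) {z : G} (hz : orderOf z = 2)
    {S : Finset (IrrCharacter G)} (hS : ∀ χ ∈ S, χ ≠ principalIrr G) {l : List (ℕ × ℤ)}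
    (hl : (l : Multiset (ℕ × ℤ)) = S.val.map (pr z)) {as : List Row} (ha : F.a ∈ as) :
    noChain (Nat.card (Subgroup.centralizer ({z} : Set G))) F.b as l = false := by
  obtain ⟨ib, hib, U, hU, -⟩ := F.exists_chain hG hz hS hl
  rw [Bool.eq_false_iff]
  intro h
  simp only [noChain, Bool.or_eq_true, List.isEmpty_iff, List.all_eq_true] at h
  rcases h with h | h
  · exact List.ne_nil_of_mem ha h
  · exact List.ne_nil_of_mem hU (h ib hib _ ha)

end Frame

end frame

end CfsgLib.MathieuTwentyThree.ByOrder
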