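import Cfsg.Agent.Lib.MathieuTwentyThreeOrder.Interface
import Cfsg.Agent.Lib.Small.Basic

/-!
# The class count of a group with the shape of the Mathieu group of degree twenty-three

The seventeen classes fix the regular part at 7 and leave four classes of elements whose order is
prime to 5, 7, 11, 23 and at least 3; their sizes force the centraliser order 180 at the order three.
-/

set_option autoImplicit false
set_option linter.unusedSectionVars false
set_option linter.style.haveILetI false

namespace CfsgLib.MathieuTwentyThree.ByOrder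

open Cfsg Subgroup
open scoped Classical

universe u

noncomputable section

variable {G : Type u} [Group G] [Fintype G]

theorem card_fibre_mul (g : G) :
    (Finset.univ.filter fun x : G => IsConj g x).card *
      Nat.card (centralizer ({g} : Set G)) = Nat.card G := by
  rw [← Fintype.card_subtype, ← Nat.card_eq_fintype_card]
  exact Characters.card_isConj_mul_card_centralizer g

theorem card_centralizer_conj {g x : G} (h : IsConj g x) :
    Nat.card (centralizer ({x} : Set G)) = Nat.card (centralizer ({g} : Set G)) := by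
  have e : (Finset.univ.filter fun y : G => IsConj x y) =
      Finset.univ.filter fun y : G => IsConj g y := by
    ext y
    simp only [Finset.mem_filter, Finset.mem_univ, true_and]
    exact ⟨fun h' => h.trans h', fun h' => h.symm.trans h'⟩
  refine Nat.eq_of_mul_eq_mul_left (n := (Finset.univ.filter fun y : G => IsConj g y).card)
    (Finset.card_pos.2 ⟨g, by simp only [Finset.mem_filter, Finset.mem_univ, true_and]; exact IsConj.refl g⟩) ?_
  rw [card_fibre_mul g, ← e, card_fibre_mul x]

/-- A set of elements closed under conjugation. -/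
def Inv (S : Finset G) : Prop := ∀ a b : G, IsConj a b → a ∈ S → b ∈ S

theorem Inv.fibre {S : Finset G} (hS : Inv S) {g : G} (hg : g ∈ S) :
    (S.filter fun x => ConjClasses.mk x = ConjClasses.mk g) =
      Finset.univ.filter fun x : G => IsConj g x := by
  ext x
  simp only [Finset.mem_filter, Finset.mem_univ, true_and, ConjClasses.mk_eq_mk_iff_isConj]
  exact ⟨fun h => h.2.symm, fun h => ⟨hS g x h hg, h.symm⟩⟩

/-- The number of classes in an invariant set, from the centraliser orders. -/
theorem sum_card_centralizer {S : Finset G} (hS : Inv S) :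
    ∑ g ∈ S, Nat.card (centralizer ({g} : Set G)) =
      (S.image ConjClasses.mk).card * Nat.card G := by
  rw [← Finset.sum_fiberwise_of_maps_to (s := S) (t := S.image ConjClasses.mk)
    (g := ConjClasses.mk) fun x hx => Finset.mem_image_of_mem _ hx]
  rw [Finset.sum_congr rfl (g := fun _ => Nat.card G), Finset.sum_const, smul_eq_mul]
  intro C hC
  obtain ⟨g, hg, rfl⟩ := Finset.mem_image.1 hC
  rw [hS.fibre hg, Finset.sum_congr rfl (g := fun _ => Nat.card (centralizer ({g} : Set G)))
    fun x hx => card_centralizer_conj (Finset.mem_filter.1 hx).2, Finset.sum_const, smul_eq_mul]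
  exact card_fibre_mul g

theorem le_centralizer_pow (g : G) (n : ℕ) :
    centralizer ({g} : Set G) ≤ centralizer ({g ^ n} : Set G) := fun a ha =>
  mem_centralizer_singleton_iff.2
    ((show Commute a g from mem_centralizer_singleton_iff.1 ha).pow_right n).eq

theorem orderOf_dvd_centralizer (g : G) : orderOf g ∣ Nat.card (centralizer ({g} : Set G)) := by
  have h := orderOf_dvd_natCard
    (⟨g, mem_centralizer_singleton_iff.2 rfl⟩ : centralizer ({g} : Set G))
  rwa [Subgroup.orderOf_mk] at h

theorem orderOf_dvd_of_commute {g y : G} (h : g * y = y * g) :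
    orderOf g ∣ Nat.card (centralizer ({y} : Set G)) := by
  have h' := orderOf_dvd_natCard (⟨g, mem_centralizer_singleton_iff.2 h⟩ : centralizer ({y} : Set G))
  rwa [Subgroup.orderOf_mk] at h'

section Prime

variable {p c E : ℕ} [hp : Fact p.Prime]
  (hC : ∀ y : G, orderOf y = p → Nat.card (centralizer ({y} : Set G)) = p * c)
  (hE : E % p = 1) (hcE : c ∣ E)
include hC hE hcE

theorem pow_power {y : G} (hy : orderOf y = p) : y ^ E = y := by
  rw [← pow_mod_orderOf, hy, hE, pow_one]

/-- `g ^ E` lies in the group generated by `y` when `g` commutes with `y`. -/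
theorem pow_mem_zpowers {g y : G} (hy : orderOf y = p) (hg : g * y = y * g) :
    g ^ E ∈ zpowers y := by
  set H := centralizer ({y} : Set G) with hH
  have hle : zpowers y ≤ H := zpowers_le.2 (mem_centralizer_singleton_iff.2 rfl)
  set Z := (zpowers y).subgroupOf H with hZ
  have hn : Z.Normal := by
    refine ⟨fun n hn a => ?_⟩
    rw [hZ, mem_subgroupOf] at hn ⊢
    obtain ⟨k, hk⟩ := mem_zpowers_iff.1 hn
    have hak : Commute (a : G) (n : G) := by
      rw [← hk]
      exact (show Commute (a : G) y from mem_centralizer_singleton_iff.1 a.2).zpow_right k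
    push_cast
    rw [hak.eq, mul_inv_cancel_right]
    exact hn
  have hi : Z.index = c := by
    have h := Z.index_mul_card
    rw [Nat.card_congr (subgroupOfEquivOfLe hle).toEquiv, Nat.card_zpowers, hy, hC y hy,
      mul_comm p c] at h
    exact Nat.eq_of_mul_eq_mul_right hp.out.pos h
  have h := Z.pow_index_mem (⟨g, mem_centralizer_singleton_iff.2 hg⟩ : H)
  rw [hi, hZ, mem_subgroupOf] at h
  obtain ⟨k, rfl⟩ := hcE
  rw [pow_mul]
  exact pow_mem h k

theorem exists_part {g : G} (hg : p ∣ orderOf g) :
    ∃ y : G, orderOf y = p ∧ g * y = y * g ∧ y = g ^ E := by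
  have h0 : orderOf g ≠ 0 := (orderOf_pos g).ne'
  have hy : orderOf (g ^ (orderOf g / p)) = p := orderOf_pow_orderOf_div h0 hg
  have hd : orderOf g ∣ p * E :=
    ((orderOf_dvd_of_commute (Commute.pow_right (Commute.refl g) _).eq).trans
      (hC _ hy).dvd).trans (Nat.mul_dvd_mul_left p hcE)
  refine ⟨g ^ E, ?_, (Commute.pow_right (Commute.refl g) E).eq, rfl⟩
  have hE0 : ¬ p ∣ E := fun h => by
    rw [Nat.mod_eq_zero_of_dvd h] at hE
    omega
  have hne : g ^ E ≠ 1 := fun h => hE0 (hg.trans (orderOf_dvd_of_pow_eq_one h))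
  refine orderOf_eq_prime ?_ hne
  rw [← pow_mul, mul_comm]
  exact orderOf_dvd_iff_pow_eq_one.1 hd

/-- The elements of order divisible by `p`. -/
theorem card_dvd_orderOf :
    (Finset.univ.filter fun g : G => p ∣ orderOf g).card =
      Nat.card {y : G // orderOf y = p} * c := by
  rw [← Fintype.card_subtype, ← Nat.card_eq_fintype_card]
  let K : G → Type u := fun y => {u : G // u * y = y * u ∧ u ^ E = 1}
  have hK : ∀ y : G, orderOf y = p → Nat.card (K y) = c := by
    intro y hy
    have e : centralizer ({y} : Set G) ≃ (zpowers y) × K y :=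
      { toFun := fun a => (⟨(a : G) ^ E, pow_mem_zpowers hC hE hcE hy
            (mem_centralizer_singleton_iff.1 a.2)⟩,
          ⟨((a : G) ^ E)⁻¹ * a, by
            have ha : Commute (a : G) y := mem_centralizer_singleton_iff.1 a.2
            refine ⟨((ha.pow_left E).inv_left.mul_left ha).eq, ?_⟩
            obtain ⟨k, hk⟩ := mem_zpowers_iff.1 (pow_mem_zpowers hC hE hcE hy ha.eq)
            rw [((Commute.refl (a : G)).pow_left E).inv_left.mul_pow, inv_pow,
              inv_mul_eq_one]
            conv_rhs => rw [← pow_one ((a : G) ^ E)]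
            rw [← hk, ← zpow_natCast, ← zpow_mul, mul_comm, zpow_mul, zpow_natCast,
              pow_power hC hE hcE hy, pow_one]⟩)
        invFun := fun b => ⟨(b.1 : G) * b.2.1, mul_mem
            (zpowers_le.2 (mem_centralizer_singleton_iff.2 rfl) b.1.2)
            (mem_centralizer_singleton_iff.2 b.2.2.1)⟩
        left_inv := fun a => Subtype.ext (mul_inv_cancel_left _ _)
        right_inv := fun b => by
          obtain ⟨k, hk⟩ := mem_zpowers_iff.1 b.1.2
          have hcm : Commute (b.1 : G) b.2.1 := by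
            rw [← hk]
            exact ((show Commute b.2.1 y from b.2.2.1).zpow_right k).symm
          have hpow : ((b.1 : G) * b.2.1) ^ E = b.1 := by
            rw [hcm.mul_pow, b.2.2.2, mul_one, ← hk, ← zpow_natCast, ← zpow_mul, mul_comm,
              zpow_mul, zpow_natCast, pow_power hC hE hcE hy]
          refine Prod.ext (Subtype.ext hpow) (Subtype.ext ?_)
          show ((((b.1 : G) * b.2.1) ^ E)⁻¹ * ((b.1 : G) * b.2.1)) = b.2.1
          rw [hpow, inv_mul_cancel_left] }
    have h := Nat.card_congr e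
    rw [Nat.card_prod, Nat.card_zpowers, hy, hC y hy] at h
    exact (Nat.eq_of_mul_eq_mul_left hp.out.pos h).symm
  have key : {g : G // p ∣ orderOf g} ≃ Σ y : {y : G // orderOf y = p}, K y.1 := by
    refine Equiv.ofBijective (fun g => ⟨⟨g.1 ^ E, by
        obtain ⟨y, hy, -, rfl⟩ := exists_part hC hE hcE g.2
        exact hy⟩, ⟨(g.1 ^ E)⁻¹ * g.1,
          ((Commute.refl (g.1 ^ E)).inv_left.mul_left
            ((Commute.refl g.1).pow_right E)).eq, ?_⟩⟩) ?_
    · obtain ⟨y, hy, -, hyg⟩ := exists_part hC hE hcE g.2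
      rw [((Commute.refl g.1).pow_left E).inv_left.mul_pow, inv_pow, ← hyg,
        pow_power hC hE hcE hy, inv_mul_cancel]
    constructor
    · intro a b hab
      have h1 : a.1 ^ E = b.1 ^ E := congrArg (fun s => (s.1.1 : G)) hab
      have h2 : (a.1 ^ E)⁻¹ * a.1 = (b.1 ^ E)⁻¹ * b.1 := congrArg (fun s => (s.2.1 : G)) hab
      rw [h1] at h2
      exact Subtype.ext (mul_left_cancel h2)
    · rintro ⟨⟨y, hy⟩, u, hu, huE⟩
      have hpow : (y * u) ^ E = y := by
        rw [(show Commute y u from hu.symm).mul_pow, pow_power hC hE hcE hy, huE, mul_one]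
      have hd : p ∣ orderOf (y * u) := by
        have := orderOf_pow_dvd (x := y * u) E
        rwa [hpow, hy] at this
      refine ⟨⟨y * u, hd⟩, ?_⟩
      refine Sigma.ext (Subtype.ext hpow) ?_
      refine (Subtype.heq_iff_coe_eq ?_).2 ?_
      · intro w
        show (w * ((y * u) ^ E) = ((y * u) ^ E) * w ∧ w ^ E = 1) ↔ (w * y = y * w ∧ w ^ E = 1)
        rw [hpow]
      · show ((y * u) ^ E)⁻¹ * (y * u) = u
        rw [hpow, inv_mul_cancel_left]
  have : ∀ y : {y : G // orderOf y = p}, Finite (K y.1) := fun y => Subtype.finite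
  rw [Nat.card_congr key, Nat.card_sigma, Finset.sum_congr rfl fun y _ => hK y.1 y.2,
    Finset.sum_const, smul_eq_mul, Finset.card_univ, Nat.card_eq_fintype_card]

theorem card_dvd_orderOf_mul {e : ℕ} (hd : p ∣ Nat.card G) (hsq : ¬ p * p ∣ Nat.card G)
    (hN : ∀ y : G, orderOf y = p → Nat.card (normalizer (zpowers y : Set G)) = p * c * e) :
    (Finset.univ.filter fun g : G => p ∣ orderOf g).card * (p * e) =
      Nat.card G * (p - 1) := by
  have hP : ∀ P : Sylow p G, Nat.card P = p := by
    intro P
    obtain ⟨k, hk⟩ := P.isPGroup'.exists_card_eq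
    have h1 : p ∣ Nat.card P := P.dvd_card_of_dvd_card hd
    rcases Nat.lt_or_ge k 2 with hk2 | hk2
    · interval_cases k
      · rw [pow_zero] at hk
        rw [hk] at h1
        exact absurd (Nat.le_of_dvd one_pos h1) (by have := hp.out.two_le; omega)
      · rw [hk, pow_one]
    · exact absurd (((pow_two p).symm.dvd.trans (pow_dvd_pow p hk2)).trans
        (hk.symm.dvd.trans (Subgroup.card_subgroup_dvd_card _))) hsq
  rw [card_dvd_orderOf hC hE hcE, Small.card_orderOf_eq_prime hP]
  obtain ⟨y, hy⟩ := exists_prime_orderOf_dvd_card' p hd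
  obtain ⟨P, hyP, -⟩ := Small.exists_unique_sylow_mem hy hP
  have hy1 : y ≠ 1 := fun h => hp.out.ne_one (by rw [← hy, h, orderOf_one])
  have hn := Small.card_normalizer_mul_card_sylow P
  rw [Small.eq_zpowers_of_mem (hP P) hyP hy1, hN y hy] at hn
  rw [← hn]
  ring

/-- With a regular part of order at most three the centraliser is the one of the `p`-part. -/
theorem centralizer_eq_of_small (hc : c = 1 ∨ c.Prime) {g : G} (hg : p ∣ orderOf g) :
    Nat.card (centralizer ({g} : Set G)) = p * c := by
  obtain ⟨y, hy, hgy, hyE⟩ := exists_part hC hE hcE hg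
  set H := centralizer ({y} : Set G) with hH
  have hle : zpowers y ≤ H := zpowers_le.2 (mem_centralizer_singleton_iff.2 rfl)
  have hcen : (zpowers y).subgroupOf H ≤ center H := by
    intro n hn
    rw [mem_subgroupOf] at hn
    obtain ⟨k, hk⟩ := mem_zpowers_iff.1 hn
    refine mem_center_iff.2 fun a => Subtype.ext ?_
    show (a : G) * n = n * a
    rw [← hk]
    exact ((show Commute (a : G) y from mem_centralizer_singleton_iff.1 a.2).zpow_right k).eq
  have hcyc : IsCyclic (H ⧸ center H) := by
    have hdvd : Nat.card (H ⧸ center H) ∣ c := by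
      have h1 : (center H).index ∣ ((zpowers y).subgroupOf H).index := index_dvd_of_le hcen
      have h2 := ((zpowers y).subgroupOf H).index_mul_card
      rw [Nat.card_congr (subgroupOfEquivOfLe hle).toEquiv, Nat.card_zpowers, hy, hC y hy,
        mul_comm p c] at h2
      rwa [Nat.eq_of_mul_eq_mul_right hp.out.pos h2] at h1
    rcases hc with rfl | hc
    · have : Subsingleton (H ⧸ center H) :=
        (Nat.card_eq_one_iff_unique.1 (Nat.dvd_one.1 hdvd)).1
      exact isCyclic_of_subsingleton
    · rcases (Nat.dvd_prime hc).1 hdvd with h | h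
      · have : Subsingleton (H ⧸ center H) := (Nat.card_eq_one_iff_unique.1 h).1
        exact isCyclic_of_subsingleton
      · have := Fact.mk hc
        exact isCyclic_of_prime_card h
  have hcomm := MonoidHom.isMulCommutative_of_isCyclic_of_ker_le_center
    (QuotientGroup.mk' (center H)) (by rw [QuotientGroup.ker_mk'])
  refine le_antisymm ?_ ?_ |>.trans (hC y hy)
  · refine Subgroup.card_le_of_le fun a ha => ?_
    rw [hyE]
    exact le_centralizer_pow g E ha
  · refine Subgroup.card_le_of_le fun a ha => ?_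
    exact mem_centralizer_singleton_iff.2 (congrArg Subtype.val
      (hcomm.is_comm.comm ⟨a, ha⟩ ⟨g, mem_centralizer_singleton_iff.2 hgy⟩))

/-- With a regular part a large power of two the centralisers are at least `4 * p`. -/
theorem four_mul_le (hp2 : p ≠ 2) {k : ℕ} (hk : c = 2 ^ k) (hk2 : 2 ≤ k) {g : G}
    (hg : p ∣ orderOf g) : 4 * p ≤ Nat.card (centralizer ({g} : Set G)) := by
  obtain ⟨y, hy, hgy, hyE⟩ := exists_part hC hE hcE hg
  set H := centralizer ({y} : Set G) with hH
  set v : G := y⁻¹ * g with hv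
  have hvy : Commute v y := (Commute.refl y).inv_left.mul_left hgy
  have hvc : v ^ c = 1 := by
    have h1 : orderOf v ∣ p * c := (orderOf_dvd_of_commute hvy.eq).trans (hC y hy).dvd
    have h2 : v ^ E = 1 := by
      rw [hv, (show Commute y g from hgy.symm).inv_left.mul_pow, inv_pow,
        pow_power hC hE hcE hy, ← hyE, inv_mul_cancel]
    refine orderOf_dvd_iff_pow_eq_one.1 (Nat.Coprime.dvd_of_dvd_mul_left ?_ h1)
    refine Nat.Coprime.coprime_dvd_left (orderOf_dvd_of_pow_eq_one h2) ?_
    refine ((Nat.Prime.coprime_iff_not_dvd hp.out).2 fun h => ?_).symm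
    rw [Nat.mod_eq_zero_of_dvd h] at hE
    omega
  let vH : H := ⟨v, mem_centralizer_singleton_iff.2 hvy.eq⟩
  obtain ⟨n, hnk, hn⟩ : ∃ n ≤ k, orderOf vH = 2 ^ n := by
    refine (Nat.dvd_prime_pow Nat.prime_two).1 ?_
    rw [← hk]
    exact orderOf_dvd_of_pow_eq_one (Subtype.ext hvc)
  have := Fact.mk Nat.prime_two
  obtain ⟨P, hP, hvP⟩ := Sylow.exists_subgroup_card_pow_prime_le 2
    (by rw [hC y hy, hk]; exact dvd_mul_left _ _ : 2 ^ k ∣ Nat.card H) (zpowers vH)
    (by rw [Nat.card_zpowers, hn]) hnk
  have hPp : IsPGroup 2 P := IsPGroup.of_card hP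
  let vP : P := ⟨vH, hvP (mem_zpowers vH)⟩
  have h4 : 4 ∣ Nat.card (centralizer ({vP} : Set P)) := by
    obtain ⟨j, hjk, hj⟩ := (Nat.dvd_prime_pow Nat.prime_two).1
      (hP ▸ Subgroup.card_subgroup_dvd_card (centralizer ({vP} : Set P)))
    rcases Nat.lt_or_ge j 2 with h | h
    · exfalso
      by_cases hz : vP ∈ center P
      · have : centralizer ({vP} : Set P) = ⊤ := eq_top_iff.2 fun a _ =>
          mem_centralizer_singleton_iff.2 (mem_center_iff.1 hz a)
        rw [this, card_top, hP] at hj
        have := Nat.pow_right_injective le_rfl hj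
        omega
      · have : Nontrivial P := Finite.one_lt_card_iff_nontrivial.1 (by
          rw [hP]; exact Nat.one_lt_two_pow (by omega))
        have := hPp.center_nontrivial
        have h1 : 1 < Nat.card (center P) := Finite.one_lt_card
        have h2 : center P < centralizer ({vP} : Set P) :=
          lt_of_le_not_ge (fun a ha => mem_centralizer_singleton_iff.2
              (mem_center_iff.1 ha vP).symm)
            fun h => hz (h (mem_centralizer_singleton_iff.2 rfl))
        have h3 : Nat.card (center P) < 2 ^ j := by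
          rw [← hj]
          by_contra hge
          exact h2.ne (Subgroup.eq_of_le_of_card_ge h2.le (not_lt.1 hge))
        interval_cases j <;> omega
    · rw [hj]
      exact dvd_trans (by norm_num) (pow_dvd_pow 2 h)
  have hinto : (((centralizer ({vP} : Set P)).map P.subtype).map H.subtype) ≤
      centralizer ({g} : Set G) := by
    rintro _ ⟨a, ⟨b, hb, rfl⟩, rfl⟩
    refine mem_centralizer_singleton_iff.2 ?_
    have h1 : Commute ((b : H) : G) v :=
      congrArg (fun w : P => ((w : H) : G)) (mem_centralizer_singleton_iff.1 hb)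
    have h2 : Commute ((b : H) : G) y := mem_centralizer_singleton_iff.1 (b : H).2
    have h3 := h2.mul_right h1
    rw [hv, mul_inv_cancel_left] at h3
    exact h3.eq
  have h4' : 4 ∣ Nat.card (centralizer ({g} : Set G)) := by
    refine h4.trans (dvd_trans ?_ (Subgroup.card_dvd_of_le hinto))
    rw [Subgroup.card_map_of_injective H.subtype_injective,
      Subgroup.card_map_of_injective P.subtype_injective]
  have hp' : p ∣ Nat.card (centralizer ({g} : Set G)) :=
    hy ▸ orderOf_dvd_of_commute hgy.symm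
  refine Nat.le_of_dvd Nat.card_pos (Nat.Coprime.mul_dvd_of_dvd_of_dvd ?_ h4' hp')
  have := (Nat.coprime_primes Nat.prime_two hp.out).2 (Ne.symm hp2)
  exact Nat.Coprime.pow_left 2 this

end Prime

section Count

/-- The elements of order at least three and prime to 5, 7, 11, 23. -/
def rest (G : Type u) [Group G] [Fintype G] : Finset G :=
  Finset.univ.filter fun g => (orderOf g ≠ 1 ∧ orderOf g ≠ 2) ∧
    ¬ 5 ∣ orderOf g ∧ ¬ 7 ∣ orderOf g ∧ ¬ 11 ∣ orderOf g ∧ ¬ 23 ∣ orderOf g

theorem inv_rest : Inv (rest G) := by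
  intro a b hab ha
  obtain ⟨c, rfl⟩ := isConj_iff.1 hab
  rw [rest, Finset.mem_filter] at ha ⊢
  have e : orderOf (c * a * c⁻¹) = orderOf a := MulEquiv.orderOf_eq (MulAut.conj c) a
  exact ⟨Finset.mem_univ _, by rw [e]; exact ha.2⟩

variable (h : Shape G)
include h

theorem card_sylow_data : ∀ p ∈ [5, 7, 11, 23],
    p ∣ Nat.card G ∧ ¬ p * p ∣ Nat.card G := by
  rw [h.card]
  decide +kernel

theorem card_five : (Finset.univ.filter fun g : G => 5 ∣ orderOf g).card = 2040192 ∧
    ∀ g : G, 5 ∣ orderOf g → Nat.card (centralizer ({g} : Set G)) = 15 := by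
  have := Fact.mk (by decide +kernel : Nat.Prime 5)
  have hC : ∀ y : G, orderOf y = 5 → Nat.card (centralizer ({y} : Set G)) = 5 * 3 :=
    fun y hy => (h.centralizer_five y hy).trans (by norm_num)
  have hd := card_sylow_data h 5 (by simp)
  refine ⟨?_, fun g hg => centralizer_eq_of_small (E := 6) hC rfl (by norm_num)
    (Or.inr Nat.prime_three) hg⟩
  have e := card_dvd_orderOf_mul (E := 6) (e := 4) hC rfl (by norm_num) hd.1 hd.2
    fun y hy => (h.normalizer_five y hy).trans (by norm_num)
  rw [h.card] at e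
  omega

theorem card_eleven : (Finset.univ.filter fun g : G => 11 ∣ orderOf g).card = 1854720 ∧
    ∀ g : G, 11 ∣ orderOf g → Nat.card (centralizer ({g} : Set G)) = 11 := by
  have := Fact.mk (by decide +kernel : Nat.Prime 11)
  have hC : ∀ y : G, orderOf y = 11 → Nat.card (centralizer ({y} : Set G)) = 11 * 1 :=
    fun y hy => (h.centralizer_eleven y hy).trans (by norm_num)
  have hd := card_sylow_data h 11 (by simp)
  refine ⟨?_, fun g hg => centralizer_eq_of_small (E := 1) hC rfl dvd_rfl (Or.inl rfl) hg⟩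
  have e := card_dvd_orderOf_mul (E := 1) (e := 5) hC rfl dvd_rfl hd.1 hd.2
    fun y hy => (h.normalizer_eleven y hy).trans (by norm_num)
  rw [h.card] at e
  omega

theorem card_twentythree : (Finset.univ.filter fun g : G => 23 ∣ orderOf g).card = 887040 ∧
    ∀ g : G, 23 ∣ orderOf g → Nat.card (centralizer ({g} : Set G)) = 23 := by
  have := Fact.mk (by decide +kernel : Nat.Prime 23)
  have hC : ∀ y : G, orderOf y = 23 → Nat.card (centralizer ({y} : Set G)) = 23 * 1 :=
    fun y hy => (h.centralizer_twentythree y hy).trans (by norm_num)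
  have hd := card_sylow_data h 23 (by simp)
  refine ⟨?_, fun g hg => centralizer_eq_of_small (E := 1) hC rfl dvd_rfl (Or.inl rfl) hg⟩
  have e := card_dvd_orderOf_mul (E := 1) (e := 11) hC rfl dvd_rfl hd.1 hd.2
    fun y hy => (h.normalizer_twentythree y hy).trans (by norm_num)
  rw [h.card] at e
  omega

/-- The regular part at 7 is the same for all elements of order 7. -/
theorem seven_const : ∃ c : ℕ, (c = 2 ∨ c = 16 ∨ c = 128) ∧
    (∀ y : G, orderOf y = 7 → Nat.card (centralizer ({y} : Set G)) = 7 * c) ∧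
    (∀ y : G, orderOf y = 7 → Nat.card (normalizer (zpowers y : Set G)) = 7 * c * 3) := by
  have := Fact.mk (by decide +kernel : Nat.Prime 7)
  have hd := card_sylow_data h 7 (by simp)
  obtain ⟨y₀, hy₀⟩ := exists_prime_orderOf_dvd_card' 7 hd.1
  obtain ⟨c, hc, hC₀, hN₀⟩ := h.seven y₀ hy₀
  have hP : ∀ P : Sylow 7 G, Nat.card P = 7 := by
    intro P
    obtain ⟨k, hk⟩ := P.isPGroup'.exists_card_eq
    have h1 : 7 ∣ Nat.card P := P.dvd_card_of_dvd_card hd.1
    rcases Nat.lt_or_ge k 2 with hk2 | hk2
    · interval_cases k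
      · rw [hk] at h1; norm_num at h1
      · rw [hk, pow_one]
    · exact absurd ((pow_dvd_pow 7 hk2).trans (hk.symm.dvd.trans
        (Subgroup.card_subgroup_dvd_card _))) hd.2
  have hall : ∀ y : G, orderOf y = 7 → Nat.card (normalizer (zpowers y : Set G)) *
      Nat.card (Sylow 7 G) = Nat.card G := by
    intro y hy
    obtain ⟨P, hyP, -⟩ := Small.exists_unique_sylow_mem hy hP
    have hy1 : y ≠ 1 := fun e => by rw [e, orderOf_one] at hy; norm_num at hy
    rw [← Small.eq_zpowers_of_mem (hP P) hyP hy1]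
    exact Small.card_normalizer_mul_card_sylow P
  have hN : ∀ y : G, orderOf y = 7 →
      Nat.card (normalizer (zpowers y : Set G)) = 7 * c * 3 := by
    intro y hy
    have e := (hall y hy).trans (hall y₀ hy₀).symm
    rw [Nat.eq_of_mul_eq_mul_right Nat.card_pos e, hN₀]
    ring
  refine ⟨c, hc, fun y hy => ?_, hN⟩
  obtain ⟨c', -, hC', hN'⟩ := h.seven y hy
  rw [hC']
  have := hN y hy
  omega

theorem disjoint_primes (g : G) :
    ¬ (5 ∣ orderOf g ∧ 7 ∣ orderOf g) ∧ ¬ (5 ∣ orderOf g ∧ 11 ∣ orderOf g) ∧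
    ¬ (5 ∣ orderOf g ∧ 23 ∣ orderOf g) ∧ ¬ (7 ∣ orderOf g ∧ 11 ∣ orderOf g) ∧
    ¬ (7 ∣ orderOf g ∧ 23 ∣ orderOf g) ∧ ¬ (11 ∣ orderOf g ∧ 23 ∣ orderOf g) := by
  have f5 := (card_five h).2 g
  have f11 := (card_eleven h).2 g
  have f23 := (card_twentythree h).2 g
  have := orderOf_dvd_centralizer g
  refine ⟨?_, ?_, ?_, ?_, ?_, ?_⟩ <;> rintro ⟨ha, hb⟩
  · rw [f5 ha] at this; exact absurd (hb.trans this) (by norm_num)
  · rw [f5 ha] at this; exact absurd (hb.trans this) (by norm_num)
  · rw [f5 ha] at this; exact absurd (hb.trans this) (by norm_num)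
  · rw [f11 hb] at this; exact absurd (ha.trans this) (by norm_num)
  · rw [f23 hb] at this; exact absurd (ha.trans this) (by norm_num)
  · rw [f11 ha] at this; exact absurd (hb.trans this) (by norm_num)

/-- The sum over the group, cut along the orders. -/
theorem sum_parts (f : G → ℕ) :
    ∑ g : G, f g = f 1 + (∑ g ∈ Finset.univ.filter (fun g : G => orderOf g = 2), f g) +
      (∑ g ∈ Finset.univ.filter (fun g : G => 5 ∣ orderOf g), f g) +
      (∑ g ∈ Finset.univ.filter (fun g : G => 7 ∣ orderOf g), f g) +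
      (∑ g ∈ Finset.univ.filter (fun g : G => 11 ∣ orderOf g), f g) +
      (∑ g ∈ Finset.univ.filter (fun g : G => 23 ∣ orderOf g), f g) +
      ∑ g ∈ rest G, f g := by
  rw [← Finset.sum_ite_eq' (s := Finset.univ) (1 : G) f |>.trans (by simp : _ = f 1), rest]
  simp only [Finset.sum_filter, ← Finset.sum_add_distrib]
  refine Finset.sum_congr rfl fun g _ => ?_
  obtain ⟨d1, d2, d3, d4, d5, d6⟩ := disjoint_primes h g
  by_cases h1 : g = 1
  · simp [h1]
  have n1 : orderOf g ≠ 1 := fun e => h1 (orderOf_eq_one_iff.1 e)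
  by_cases h2 : orderOf g = 2
  · simp [h1, h2]
  by_cases h5 : 5 ∣ orderOf g
  · have a7 : ¬ 7 ∣ orderOf g := fun e => d1 ⟨h5, e⟩
    have a11 : ¬ 11 ∣ orderOf g := fun e => d2 ⟨h5, e⟩
    have a23 : ¬ 23 ∣ orderOf g := fun e => d3 ⟨h5, e⟩
    simp [h1, h2, h5, a7, a11, a23]
  by_cases h7 : 7 ∣ orderOf g
  · have a11 : ¬ 11 ∣ orderOf g := fun e => d4 ⟨h7, e⟩
    have a23 : ¬ 23 ∣ orderOf g := fun e => d5 ⟨h7, e⟩
    simp [h1, h2, h5, h7, a11, a23]
  by_cases h11 : 11 ∣ orderOf g
  · have a23 : ¬ 23 ∣ orderOf g := fun e => d6 ⟨h11, e⟩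
    simp [h1, h2, h5, h7, h11, a23]
  by_cases h23 : 23 ∣ orderOf g <;> simp [h1, n1, h2, h5, h7, h11, h23]

theorem card_two : (Finset.univ.filter fun g : G => orderOf g = 2).card = 3795 := by
  have := Fact.mk Nat.prime_two
  obtain ⟨t, ht⟩ := exists_prime_orderOf_dvd_card' 2 (by rw [h.card]; norm_num : 2 ∣ Nat.card G)
  have e : (Finset.univ.filter fun g : G => orderOf g = 2) =
      Finset.univ.filter fun g : G => IsConj t g := by
    ext g
    simp only [Finset.mem_filter, Finset.mem_univ, true_and]
    refine ⟨fun hg => h.conj_two t g ht hg, fun hg => ?_⟩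
    obtain ⟨c, rfl⟩ := isConj_iff.1 hg
    exact (MulEquiv.orderOf_eq (MulAut.conj c) t).trans ht
  have := card_fibre_mul t
  rw [← e, h.centralizer_two t ht, h.card] at this
  omega

theorem card_seven_mul {c : ℕ} (hc : c = 2 ∨ c = 16 ∨ c = 128)
    (hC : ∀ y : G, orderOf y = 7 → Nat.card (centralizer ({y} : Set G)) = 7 * c)
    (hN : ∀ y : G, orderOf y = 7 → Nat.card (normalizer (zpowers y : Set G)) = 7 * c * 3) :
    (Finset.univ.filter fun g : G => 7 ∣ orderOf g).card = 2914560 := by
  have := Fact.mk (by decide +kernel : Nat.Prime 7)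
  have hd := card_sylow_data h 7 (by simp)
  have hcE : c ∣ 512 := by rcases hc with rfl | rfl | rfl <;> norm_num
  have e := card_dvd_orderOf_mul (E := 512) (e := 3) hC (by norm_num) hcE hd.1 hd.2 hN
  rw [h.card] at e
  omega

theorem card_rest : (rest G).card = 2500652 := by
  obtain ⟨c, hc, hC, hN⟩ := seven_const h
  have e := sum_parts h (fun _ => 1)
  simp only [← Finset.card_eq_sum_ones, Finset.card_univ] at e
  rw [card_two h, (card_five h).1, card_seven_mul h hc hC hN, (card_eleven h).1,
    (card_twentythree h).1, ← Nat.card_eq_fintype_card, h.card] at e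
  omega

/-- The class count leaves the regular part of order two at 7 and four further classes. -/
theorem rest_classes :
    (∀ y : G, orderOf y = 7 → Nat.card (centralizer ({y} : Set G)) = 14) ∧
    (∀ y : G, orderOf y = 7 → Nat.card (normalizer (zpowers y : Set G)) = 42) ∧
    ((rest G).image ConjClasses.mk).card = 4 := by
  obtain ⟨c, hc, hC, hN⟩ := seven_const h
  have := Fact.mk (by decide +kernel : Nat.Prime 7)
  have hcls : (Finset.univ.image (ConjClasses.mk (α := G))).card = 17 := by
    rw [Finset.image_univ_of_surjective ConjClasses.mk_surjective, Finset.card_univ,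
      ← Nat.card_eq_fintype_card, ← Characters.card_irr_eq_card_conjClasses, h.card_irr]
  have htot := sum_card_centralizer (S := (Finset.univ : Finset G)) fun _ _ _ _ => Finset.mem_univ _
  rw [hcls, sum_parts h, h.card] at htot
  have e1 : Nat.card (centralizer ({(1 : G)} : Set G)) = 10200960 := by
    have : centralizer ({(1 : G)} : Set G) = ⊤ :=
      eq_top_iff.2 fun a _ => mem_centralizer_singleton_iff.2 (by rw [mul_one, one_mul])
    rw [this, card_top, h.card]
  rw [e1, Finset.sum_const_nat fun g hg => h.centralizer_two g (Finset.mem_filter.1 hg).2,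
    Finset.sum_const_nat fun g hg => (card_five h).2 g (Finset.mem_filter.1 hg).2,
    Finset.sum_const_nat fun g hg => (card_eleven h).2 g (Finset.mem_filter.1 hg).2,
    Finset.sum_const_nat fun g hg => (card_twentythree h).2 g (Finset.mem_filter.1 hg).2,
    card_two h, (card_five h).1, (card_eleven h).1, (card_twentythree h).1] at htot
  have hinv : Inv (rest G) := inv_rest
  have hrest := sum_card_centralizer (S := rest G) hinv
  rw [h.card] at hrest
  have h7 := card_seven_mul h hc hC hN
  have hc2 : c = 2 := by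
    by_contra hne
    have hge : 2914560 * 28 ≤
        ∑ g ∈ Finset.univ.filter (fun g : G => 7 ∣ orderOf g),
          Nat.card (centralizer ({g} : Set G)) := by
      rw [← h7, ← smul_eq_mul]
      refine Finset.card_nsmul_le_sum _ _ _ fun g hg => ?_
      obtain ⟨k, hk, hk2⟩ : ∃ k, c = 2 ^ k ∧ 2 ≤ k := by
        rcases hc with rfl | rfl | rfl
        · exact absurd rfl hne
        · exact ⟨4, by norm_num, by norm_num⟩
        · exact ⟨7, by norm_num, by norm_num⟩
      exact (four_mul_le (E := 512) hC (by norm_num)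
        (by rcases hc with rfl | rfl | rfl <;> norm_num) (by norm_num) hk hk2
        (Finset.mem_filter.1 hg).2 : 4 * 7 ≤ _)
    have h0 : 0 < ((rest G).image ConjClasses.mk).card := by
      rw [Finset.card_pos, Finset.image_nonempty, ← Finset.card_pos, card_rest h]
      norm_num
    omega
  subst hc2
  refine ⟨fun y hy => (hC y hy).trans (by norm_num), fun y hy => (hN y hy).trans (by norm_num), ?_⟩
  rw [Finset.sum_const_nat fun g hg => centralizer_eq_of_small (E := 512) hC (by norm_num)
    (by norm_num) (Or.inr Nat.prime_two) (Finset.mem_filter.1 hg).2, h7] at htot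
  omega

theorem mem_rest {g : G} (h1 : orderOf g ≠ 1) (h2 : orderOf g ≠ 2) {n : ℕ} (hn : orderOf g ∣ n)
    (h5 : ¬ 5 ∣ n) (h7 : ¬ 7 ∣ n) (h11 : ¬ 11 ∣ n) (h23 : ¬ 23 ∣ n) : g ∈ rest G :=
  Finset.mem_filter.2 ⟨Finset.mem_univ _, ⟨h1, h2⟩, fun e => h5 (e.trans hn),
    fun e => h7 (e.trans hn), fun e => h11 (e.trans hn), fun e => h23 (e.trans hn)⟩

theorem nine_of_three {g : G} (hg : orderOf g = 3) :
    9 ∣ Nat.card (centralizer ({g} : Set G)) := by
  have := Fact.mk Nat.prime_three
  obtain ⟨P, hP, hgP⟩ := Sylow.exists_subgroup_card_pow_prime_le 3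
    (by rw [h.card]; norm_num : 3 ^ 2 ∣ Nat.card G) (zpowers g)
    (by rw [Nat.card_zpowers, hg, pow_one]) (by norm_num)
  have hle : P ≤ centralizer ({g} : Set G) := fun a ha =>
    mem_centralizer_singleton_iff.2 (congrArg Subtype.val
      ((IsPGroup.isMulCommutative_of_card_eq_prime_sq hP).is_comm.comm ⟨a, ha⟩
        ⟨g, hgP (mem_zpowers g)⟩))
  exact (by rw [hP]; norm_num : 9 ∣ Nat.card P).trans (Subgroup.card_dvd_of_le hle)

theorem dvd_of_involution {g t : G} (ht : orderOf t = 2)
    (hle : centralizer ({g} : Set G) ≤ centralizer ({t} : Set G))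
    (h7 : ¬ 7 ∣ Nat.card (centralizer ({g} : Set G))) :
    Nat.card (centralizer ({g} : Set G)) ∣ 384 := by
  refine (((Nat.Prime.coprime_iff_not_dvd (by decide +kernel : Nat.Prime 7)).2 h7).symm).dvd_of_dvd_mul_left
    (show _ ∣ 7 * 384 from ?_)
  have := Subgroup.card_dvd_of_le hle
  rwa [h.centralizer_two t ht] at this

/-- What is known of the centraliser order in the four remaining classes. -/
theorem rest_props {g : G} (hg : g ∈ rest G) :
    Nat.card (centralizer ({g} : Set G)) ∣ 5760 ∧ 3 ≤ Nat.card (centralizer ({g} : Set G)) ∧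
    (Nat.card (centralizer ({g} : Set G)) ∣ 384 ∨
      9 ∣ Nat.card (centralizer ({g} : Set G))) := by
  obtain ⟨h14, -, -⟩ := rest_classes h
  obtain ⟨⟨n1, n2⟩, n5, n7, n11, n23⟩ := (Finset.mem_filter.1 hg).2
  set C := Nat.card (centralizer ({g} : Set G)) with hC
  have key : ∀ q m : ℕ, q.Prime →
      (∀ y : G, orderOf y = q → Nat.card (centralizer ({y} : Set G)) = m) →
      q ∣ C → orderOf g ∣ m := by
    intro q m hq hm hqC
    have := Fact.mk hq
    obtain ⟨y, hy⟩ := exists_prime_orderOf_dvd_card' q hqC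
    have hy' : orderOf (y : G) = q := by rw [Subgroup.orderOf_coe]; exact hy
    rw [← hm y hy']
    exact orderOf_dvd_of_commute (mem_centralizer_singleton_iff.1 y.2).symm
  have c7 : ¬ 7 ∣ C := fun e => by
    have := key 7 14 (by decide +kernel) h14 e
    have hle := Nat.le_of_dvd (by norm_num) this
    interval_cases (orderOf g) <;> omega
  have c11 : ¬ 11 ∣ C := fun e => by
    rcases (Nat.dvd_prime (by decide +kernel)).1
      (key 11 11 (by decide +kernel) h.centralizer_eleven e) with h' | h'
    · exact n1 h'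
    · exact n11 (h' ▸ dvd_rfl)
  have c23 : ¬ 23 ∣ C := fun e => by
    rcases (Nat.dvd_prime (by decide +kernel)).1
      (key 23 23 (by decide +kernel) h.centralizer_twentythree e) with h' | h'
    · exact n1 h'
    · exact n23 (h' ▸ dvd_rfl)
  have hdvd : C ∣ 5760 := by
    have hG : C ∣ 5760 * (7 * (11 * 23)) := by
      rw [show 5760 * (7 * (11 * 23)) = Nat.card G by rw [h.card]]
      exact Subgroup.card_subgroup_dvd_card _
    refine Nat.Coprime.dvd_of_dvd_mul_right ?_ hG
    exact Nat.Coprime.mul_right ((Nat.Prime.coprime_iff_not_dvd (by decide +kernel)).2 c7).symm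
      (Nat.Coprime.mul_right ((Nat.Prime.coprime_iff_not_dvd (by decide +kernel)).2 c11).symm
        ((Nat.Prime.coprime_iff_not_dvd (by decide +kernel)).2 c23).symm)
  have h3 : 3 ≤ orderOf g := by have := orderOf_pos g; omega
  have hoC : orderOf g ∣ C := orderOf_dvd_centralizer g
  refine ⟨hdvd, h3.trans (Nat.le_of_dvd Nat.card_pos hoC), ?_⟩
  by_cases hev : 2 ∣ orderOf g
  · have := Fact.mk Nat.prime_two
    exact Or.inl (dvd_of_involution h (orderOf_pow_orderOf_div (orderOf_pos g).ne' hev)
      (le_centralizer_pow g _) c7)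
  · refine Or.inr ?_
    have h9 : orderOf g ∣ 9 := by
      refine ((((Nat.Prime.coprime_iff_not_dvd Nat.prime_two).2 hev).symm.pow_right 7).mul_right
        ((Nat.Prime.coprime_iff_not_dvd (by decide +kernel : Nat.Prime 5)).2 n5).symm).dvd_of_dvd_mul_left
        (show _ ∣ 2 ^ 7 * 5 * 9 from hoC.trans (hdvd.trans (by norm_num)))
    have := Nat.le_of_dvd (by norm_num) h9
    interval_cases ho : orderOf g <;>
      first
        | omega
        | exact nine_of_three h ho

/-- An element of order divisible by 9 or 3 with an even centraliser has a companion class. -/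
theorem companion {g : G} (hg : g ∈ rest G) (h9 : 9 ∣ Nat.card (centralizer ({g} : Set G)))
    (h2 : Nat.card (centralizer ({g} : Set G)) % 2 = 0) :
    ∃ b ∈ rest G, 6 ∣ Nat.card (centralizer ({b} : Set G)) ∧
      Nat.card (centralizer ({b} : Set G)) ∣ 384 ∧
      Nat.gcd (Nat.card (centralizer ({g} : Set G))) 128 ∣
        Nat.card (centralizer ({b} : Set G)) := by
  obtain ⟨h14, -, -⟩ := rest_classes h
  obtain ⟨⟨n1, n2⟩, n5, n7, n11, n23⟩ := (Finset.mem_filter.1 hg).2
  set C := Nat.card (centralizer ({g} : Set G)) with hC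
  have hodd : ¬ 2 ∣ orderOf g := fun hev => by
    have := Fact.mk Nat.prime_two
    have h384 := Subgroup.card_dvd_of_le (le_centralizer_pow g (orderOf g / 2))
    rw [h.centralizer_two _ (orderOf_pow_orderOf_div (orderOf_pos g).ne' hev)] at h384
    exact absurd (h9.trans h384) (by norm_num)
  obtain ⟨k, hk, hgk⟩ := (Nat.dvd_prime_pow Nat.prime_two).1
    (show Nat.gcd C 128 ∣ 2 ^ 7 from Nat.gcd_dvd_right C 128)
  have hk1 : 1 ≤ k := by
    by_contra hk0
    have : 2 ∣ Nat.gcd C 128 := Nat.dvd_gcd (Nat.dvd_of_mod_eq_zero h2) (by norm_num)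
    rw [hgk, show k = 0 by omega] at this
    norm_num at this
  have := Fact.mk Nat.prime_two
  obtain ⟨S, hS⟩ := Sylow.exists_subgroup_card_pow_prime (G := centralizer ({g} : Set G)) 2
    (n := k) (hgk ▸ Nat.gcd_dvd_left C 128)
  have : Nontrivial S := Finite.one_lt_card_iff_nontrivial.1 (by
    rw [hS]; exact Nat.one_lt_two_pow (by omega))
  have hSp : IsPGroup 2 S := IsPGroup.of_card hS
  have := hSp.center_nontrivial
  obtain ⟨z, hz⟩ := exists_prime_orderOf_dvd_card' 2 (G := center S) (by
    obtain ⟨j, hj⟩ := (hSp.to_subgroup (center S)).exists_card_eq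
    rw [hj]
    refine dvd_pow_self 2 fun hj0 => ?_
    rw [hj0, pow_zero] at hj
    exact absurd hj (Finite.one_lt_card (α := center S)).ne')
  set t : G := (((z : S) : centralizer ({g} : Set G)) : G) with ht
  have ho : orderOf t = 2 := by
    rw [ht, Subgroup.orderOf_coe, Subgroup.orderOf_coe, Subgroup.orderOf_coe]
    exact hz
  have hgt : Commute g t :=
    (show Commute t g from mem_centralizer_singleton_iff.1
      ((z : S) : centralizer ({g} : Set G)).2).symm
  set b := g * t with hb
  have hob : orderOf b = orderOf g * 2 := by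
    rw [hb, hgt.orderOf_mul_eq_mul_orderOf_of_coprime (by
      rw [ho]; exact ((Nat.Prime.coprime_iff_not_dvd Nat.prime_two).2 hodd).symm), ho]
  have hpow : b ^ orderOf g = t := by
    rw [hb, hgt.mul_pow, pow_orderOf_eq_one, one_mul, ← pow_mod_orderOf, ho,
      show orderOf g % 2 = 1 by omega, pow_one]
  have hbt : centralizer ({b} : Set G) ≤ centralizer ({t} : Set G) :=
    hpow ▸ le_centralizer_pow b (orderOf g)
  have hb2688 : orderOf b ∣ 2688 := by
    rw [← h.centralizer_two t ho]
    exact (orderOf_dvd_centralizer b).trans (Subgroup.card_dvd_of_le hbt)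
  have hb7 : ¬ 7 ∣ orderOf b := fun e => by
    rw [hob] at e
    rcases (Nat.Prime.dvd_mul (by decide +kernel)).1 e with e' | e'
    · exact n7 e'
    · norm_num at e'
  have hb384 : orderOf b ∣ 384 :=
    (((Nat.Prime.coprime_iff_not_dvd (by decide +kernel : Nat.Prime 7)).2 hb7).symm).dvd_of_dvd_mul_left
      (show _ ∣ 7 * 384 from hb2688)
  have hmem : b ∈ rest G := mem_rest h (by rw [hob]; have := orderOf_pos g; omega)
    (by rw [hob]; omega) hb384 (by norm_num) (by norm_num) (by norm_num) (by norm_num)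
  have hg3 : 3 ∣ orderOf g := by
    have h1 : orderOf g ∣ 2 ^ 7 * 3 :=
      (Dvd.intro 2 hob.symm).trans (hb384.trans (by norm_num))
    have h3 : orderOf g ∣ 3 := (((Nat.Prime.coprime_iff_not_dvd Nat.prime_two).2 hodd).symm.pow_right
      7).dvd_of_dvd_mul_left h1
    rcases (Nat.dvd_prime Nat.prime_three).1 h3 with e | e
    · exact absurd e n1
    · exact e ▸ dvd_rfl
  obtain ⟨hd, -, hor⟩ := rest_props h hmem
  have hbdvd : Nat.card (centralizer ({b} : Set G)) ∣ 384 := by
    refine dvd_of_involution h ho hbt fun e => ?_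
    exact absurd (e.trans hd) (by norm_num)
  refine ⟨b, hmem, (dvd_trans ?_ (orderOf_dvd_centralizer b)), hbdvd, ?_⟩
  · rw [hob]
    exact Nat.mul_dvd_mul hg3 dvd_rfl
  · rw [hgk, ← hS, ← Subgroup.card_map_of_injective
      (centralizer ({g} : Set G)).subtype_injective]
    refine Subgroup.card_dvd_of_le ?_
    rintro _ ⟨a, ha, rfl⟩
    refine mem_centralizer_singleton_iff.2 ?_
    have h1 : Commute (a : G) g := mem_centralizer_singleton_iff.1 a.2
    have h2' : Commute (a : G) t := congrArg (fun w : S => ((w : centralizer ({g} : Set G)) : G))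
      (mem_center_iff.1 z.2 ⟨a, ha⟩)
    exact (h1.mul_right h2').eq

end Count

/-- The centraliser orders of the four remaining classes. -/
def dvals : List ℕ :=
  [3, 4, 6, 8, 9, 12, 16, 18, 24, 32, 36, 45, 48, 64, 72, 90, 96, 128, 144, 180, 192, 288, 360, 384,
    576, 720, 1152, 1440, 2880, 5760]

/-- A member with 9 in it is odd or has a companion. -/
def okB (x : ℕ) (l : List ℕ) : Bool :=
  x % 9 != 0 || x % 2 == 1 ||
    l.any fun y => y % 6 == 0 && 384 % y == 0 && y % Nat.gcd x 128 == 0

theorem quad_check : ∀ a ∈ [45, 90, 180, 360, 720, 1440, 2880, 5760],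
    ∀ b ∈ [6, 12, 24, 48, 96, 192, 384], ∀ c ∈ dvals,
      (let r := 1412 - (5760 / a + 5760 / b + 5760 / c)
       let d := 5760 / r
       r == 0 || 5760 % r != 0 || !dvals.contains d || !okB a [a, b, c, d] ||
        !okB c [a, b, c, d] || !okB d [a, b, c, d] ||
        ((a == 180) && (c % 9 != 0 || c == 180) && (d % 9 != 0 || d == 180))) = true := by
  decide +kernel

theorem mem_dvals {d : ℕ} (h1 : d ∣ 5760) (h2 : 3 ≤ d) (h3 : d ∣ 384 ∨ 9 ∣ d) : d ∈ dvals := by
  have hmem : d ∈ Nat.divisors 5760 := Nat.mem_divisors.2 ⟨h1, by norm_num⟩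
  have key : ∀ d ∈ Nat.divisors 5760, 3 ≤ d → (d ∣ 384 ∨ 9 ∣ d) → d ∈ dvals := by decide +kernel
  exact key d hmem h2 h3

theorem mem_fortyfive {d : ℕ} (h1 : d ∣ 5760) (h2 : 45 ∣ d) :
    d ∈ [45, 90, 180, 360, 720, 1440, 2880, 5760] := by
  have key : ∀ d ∈ Nat.divisors 5760, 45 ∣ d → d ∈ [45, 90, 180, 360, 720, 1440, 2880, 5760] := by
    decide +kernel
  exact key d (Nat.mem_divisors.2 ⟨h1, by norm_num⟩) h2

theorem mem_six {d : ℕ} (h1 : d ∣ 384) (h2 : 6 ∣ d) : d ∈ [6, 12, 24, 48, 96, 192, 384] := by
  have key : ∀ d ∈ Nat.divisors 384, 6 ∣ d → d ∈ [6, 12, 24, 48, 96, 192, 384] := by decide +kernel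
  exact key d (Nat.mem_divisors.2 ⟨h1, by norm_num⟩) h2

section Endgame

variable (h : Shape G)
include h

/-- An element of the remaining set with centraliser divisible by 45. -/
theorem exists_fortyfive : ∃ x ∈ rest G, 45 ∣ Nat.card (centralizer ({x} : Set G)) := by
  have := Fact.mk (by decide +kernel : Nat.Prime 5)
  have := Fact.mk Nat.prime_three
  obtain ⟨y, hy⟩ := exists_prime_orderOf_dvd_card' 5 (card_sylow_data h 5 (by simp)).1
  obtain ⟨x, hx⟩ := exists_prime_orderOf_dvd_card' 3 (G := centralizer ({y} : Set G))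
    (by rw [h.centralizer_five y hy]; norm_num)
  have hxo : orderOf (x : G) = 3 := by rw [Subgroup.orderOf_coe]; exact hx
  refine ⟨x, mem_rest h (by rw [hxo]; norm_num) (by rw [hxo]; norm_num) (n := 3) (hxo.dvd)
    (by norm_num) (by norm_num) (by norm_num) (by norm_num), ?_⟩
  have h5 : 5 ∣ Nat.card (centralizer ({(x : G)} : Set G)) :=
    hy ▸ orderOf_dvd_of_commute (mem_centralizer_singleton_iff.1 x.2).symm
  exact Nat.Coprime.mul_dvd_of_dvd_of_dvd (by norm_num : Nat.Coprime 9 5) (nine_of_three h hxo) h5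

/-- An element of order six. -/
theorem exists_six : ∃ b ∈ rest G, 6 ∣ Nat.card (centralizer ({b} : Set G)) ∧
    Nat.card (centralizer ({b} : Set G)) ∣ 384 := by
  have := Fact.mk Nat.prime_two
  have := Fact.mk Nat.prime_three
  obtain ⟨t, ht⟩ := exists_prime_orderOf_dvd_card' 2 (by rw [h.card]; norm_num : 2 ∣ Nat.card G)
  obtain ⟨x, hx⟩ := exists_prime_orderOf_dvd_card' 3 (G := centralizer ({t} : Set G))
    (by rw [h.centralizer_two t ht]; norm_num)
  have hxo : orderOf (x : G) = 3 := by rw [Subgroup.orderOf_coe]; exact hx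
  have hxt : Commute (x : G) t := mem_centralizer_singleton_iff.1 x.2
  have hob : orderOf ((x : G) * t) = 6 := by
    rw [hxt.orderOf_mul_eq_mul_orderOf_of_coprime (by rw [hxo, ht]; norm_num), hxo, ht]
  have hmem : (x : G) * t ∈ rest G := mem_rest h (by rw [hob]; norm_num) (by rw [hob]; norm_num)
    (n := 6) hob.dvd (by norm_num) (by norm_num) (by norm_num) (by norm_num)
  refine ⟨_, hmem, hob ▸ orderOf_dvd_centralizer _, ?_⟩
  obtain ⟨hd, -, -⟩ := rest_props h hmem
  refine dvd_of_involution h ht ?_ fun e => absurd (e.trans hd) (by norm_num)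
  have hpow : ((x : G) * t) ^ 3 = t := by
    rw [hxt.mul_pow, ← hxo, pow_orderOf_eq_one, one_mul, hxo, ← pow_mod_orderOf, ht]
    exact pow_one t
  have := le_centralizer_pow ((x : G) * t) 3
  rwa [hpow] at this

theorem centralizer_three (x : G) (hx : orderOf x = 3) :
    Nat.card (centralizer ({x} : Set G)) = 180 := by
  obtain ⟨-, -, h4⟩ := rest_classes h
  obtain ⟨a, ha, h45⟩ := exists_fortyfive h
  obtain ⟨b, hb, h6, h384⟩ := exists_six h
  have hxm : x ∈ rest G := mem_rest h (by rw [hx]; norm_num) (by rw [hx]; norm_num) (n := 3) hx.dvd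
    (by norm_num) (by norm_num) (by norm_num) (by norm_num)
  have hab : ConjClasses.mk a ≠ ConjClasses.mk b := fun e => by
    have := card_centralizer_conj (ConjClasses.mk_eq_mk_iff_isConj.1 e)
    rw [this] at h384
    exact absurd (h45.trans h384) (by norm_num)
  have hA : ConjClasses.mk a ∈ (rest G).image ConjClasses.mk := Finset.mem_image_of_mem _ ha
  have hB : ConjClasses.mk b ∈ ((rest G).image ConjClasses.mk).erase (ConjClasses.mk a) :=
    Finset.mem_erase.2 ⟨hab.symm, Finset.mem_image_of_mem _ hb⟩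
  obtain ⟨C, D, hCD, hCDeq⟩ := Finset.card_eq_two.1 (show ((((rest G).image ConjClasses.mk).erase
    (ConjClasses.mk a)).erase (ConjClasses.mk b)).card = 2 by
      rw [Finset.card_erase_of_mem hB, Finset.card_erase_of_mem hA, h4])
  have himg : (rest G).image ConjClasses.mk =
      insert (ConjClasses.mk a) (insert (ConjClasses.mk b) {C, D}) := by
    rw [← hCDeq, Finset.insert_erase hB, Finset.insert_erase hA]
  have hmemC : C ∈ ((((rest G).image ConjClasses.mk).erase (ConjClasses.mk a)).erase
      (ConjClasses.mk b)) := by rw [hCDeq]; simp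
  have hmemD : D ∈ ((((rest G).image ConjClasses.mk).erase (ConjClasses.mk a)).erase
      (ConjClasses.mk b)) := by rw [hCDeq]; simp
  simp only [Finset.mem_erase] at hmemC hmemD
  obtain ⟨hCb, hCa, hCm⟩ := hmemC
  obtain ⟨hDb, hDa, hDm⟩ := hmemD
  obtain ⟨c, hc, rfl⟩ := Finset.mem_image.1 hCm
  obtain ⟨d, hd, rfl⟩ := Finset.mem_image.1 hDm
  have hsum : (rest G).card = ∑ K ∈ (rest G).image ConjClasses.mk,
      ((rest G).filter fun g => ConjClasses.mk g = K).card :=
    Finset.card_eq_sum_card_image _ _
  rw [himg, Finset.sum_insert (by simp [hab, hCa.symm, hDa.symm]),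
    Finset.sum_insert (by simp [hCb.symm, hDb.symm]), Finset.sum_pair hCD, card_rest h,
    inv_rest.fibre ha, inv_rest.fibre hb, inv_rest.fibre hc, inv_rest.fibre hd] at hsum
  set ca := Nat.card (centralizer ({a} : Set G)) with hca
  set cb := Nat.card (centralizer ({b} : Set G)) with hcb
  set cc := Nat.card (centralizer ({c} : Set G)) with hcc
  set cd := Nat.card (centralizer ({d} : Set G)) with hcd
  have hfib : ∀ g ∈ rest G, (Finset.univ.filter fun z : G => IsConj g z).card =
      1771 * (5760 / Nat.card (centralizer ({g} : Set G))) := by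
    intro g hg
    obtain ⟨hd', -, -⟩ := rest_props h hg
    refine Nat.eq_of_mul_eq_mul_right (Nat.card_pos (α := centralizer ({g} : Set G))) ?_
    rw [card_fibre_mul, mul_assoc, Nat.div_mul_cancel hd', h.card]
    norm_num only
  rw [hfib a ha, hfib b hb, hfib c hc, hfib d hd, ← hca, ← hcb, ← hcc, ← hcd] at hsum
  have val : ∀ g ∈ rest G, Nat.card (centralizer ({g} : Set G)) = ca ∨
      Nat.card (centralizer ({g} : Set G)) = cb ∨ Nat.card (centralizer ({g} : Set G)) = cc ∨
      Nat.card (centralizer ({g} : Set G)) = cd := by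
    intro g hg
    have hgm : ConjClasses.mk g ∈ (rest G).image ConjClasses.mk := Finset.mem_image_of_mem _ hg
    simp only [himg, Finset.mem_insert, Finset.mem_singleton,
      ConjClasses.mk_eq_mk_iff_isConj] at hgm
    rcases hgm with e | e | e | e <;> have := card_centralizer_conj e
    · exact Or.inl this.symm
    · exact Or.inr (Or.inl this.symm)
    · exact Or.inr (Or.inr (Or.inl this.symm))
    · exact Or.inr (Or.inr (Or.inr this.symm))
  have hok : ∀ g ∈ rest G,
      okB (Nat.card (centralizer ({g} : Set G))) [ca, cb, cc, cd] = true := by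
    intro g hg
    simp only [okB, Bool.or_eq_true, bne_iff_ne, beq_iff_eq, List.any_eq_true, Bool.and_eq_true]
    by_cases h9 : Nat.card (centralizer ({g} : Set G)) % 9 = 0
    · rcases Nat.mod_two_eq_zero_or_one (Nat.card (centralizer ({g} : Set G))) with h2 | h2
      · obtain ⟨z, hz, hz6, hz384, hgcd⟩ := companion h hg (Nat.dvd_of_mod_eq_zero h9) h2
        refine Or.inr ⟨_, ?_, ⟨Nat.mod_eq_zero_of_dvd hz6, Nat.mod_eq_zero_of_dvd hz384⟩,
          Nat.mod_eq_zero_of_dvd hgcd⟩
        rcases val z hz with e | e | e | e <;> rw [e] <;> simp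
      · exact Or.inl (Or.inr h2)
    · exact Or.inl (Or.inl h9)
  obtain ⟨ha1, ha2, ha3⟩ := rest_props h ha
  obtain ⟨hc1, hc2, hc3⟩ := rest_props h hc
  obtain ⟨hd1, hd2, hd3⟩ := rest_props h hd
  have hq := quad_check ca (mem_fortyfive ha1 h45) cb (mem_six h384 h6) cc (mem_dvals hc1 hc2 hc3)
  have hr : 1412 - (5760 / ca + 5760 / cb + 5760 / cc) = 5760 / cd := by omega
  have hr0 : 5760 / cd ≠ 0 := by
    rw [Nat.div_ne_zero_iff]
    exact ⟨by omega, Nat.le_of_dvd (by norm_num) hd1⟩
  simp only [hr] at hq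
  have hdd : 5760 / (5760 / cd) = cd := Nat.div_div_self hd1 (by norm_num)
  rw [hdd] at hq
  have oa : okB ca [ca, cb, cc, cd] = true := hok a ha
  have oc : okB cc [ca, cb, cc, cd] = true := hok c hc
  have od : okB cd [ca, cb, cc, cd] = true := hok d hd
  have b1 : (5760 / cd == 0) = false := beq_eq_false_iff_ne.2 hr0
  have b2 : (5760 % (5760 / cd) != 0) = false := by
    rw [Nat.mod_eq_zero_of_dvd (Nat.div_dvd_of_dvd (show cd ∣ 5760 from hd1)), bne_self_eq_false]
  have b3 : dvals.contains cd = true :=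
    List.contains_iff_mem.2 (mem_dvals hd1 hd2 hd3)
  rw [oa, oc, od, b1, b2, b3] at hq
  simp only [Bool.not_true, Bool.false_or, Bool.or_false, Bool.and_eq_true, Bool.or_eq_true,
    beq_iff_eq, bne_iff_ne] at hq
  obtain ⟨⟨hqa, hqc⟩, hqd⟩ := hq
  have h9 := nine_of_three h hx
  rcases val x hxm with e | e | e | e <;> rw [e] at h9 ⊢
  · exact hqa
  · exact absurd (h9.trans h384) (by norm_num)
  · exact hqc.resolve_left (by simp [Nat.mod_eq_zero_of_dvd h9])
  · exact hqd.resolve_left (by simp [Nat.mod_eq_zero_of_dvd h9])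

end Endgame

end

/-- The class count gives the centraliser orders and the number of involutions. -/
theorem counts_of_shape {G : Type u} [Group G] [Finite G] [IsSimpleGroup G] (h : Shape G) :
    CfsgLib.MathieuTwentyThree.Counts G := by
  classical
  have : Fintype G := Fintype.ofFinite G
  obtain ⟨h14, h42, -⟩ := rest_classes h
  exact
    { card := h.card
      involutions := by
        rw [Nat.card_eq_fintype_card, Fintype.card_subtype]
        exact card_two h
      centralizer_two := h.centralizer_two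
      centralizer_three := centralizer_three h
      centralizer_seven := h14
      normalizer_seven := h42 }

end CfsgLib.MathieuTwentyThree.ByOrder
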