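import Cfsg.Agent.Lib.MathieuTwentyThreeOrder.ValueSearch

/-!
# Filling a row of odd automiser and trivial regular part, depth first

The number of pairs is zero, so the weighted sum of squares is an equation: positive members first,
then the partial sums are monotone and branches are cut early. Equal degrees get monotone values.
-/

set_option autoImplicit false

namespace CfsgLib.MathieuTwentyThree.ByOrder

open CfsgLib.MathieuTwentyTwo.ByOrder (Row sd degLin valLin degProd quadNum leL leL_of_le)

/-- The least square of a list of values. -/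
def minSq : List ℤ → ℕ
  | [] => 0
  | v :: os => os.foldl (fun m u => min m (u.natAbs * u.natAbs)) (v.natAbs * v.natAbs)

theorem foldl_minSq_le (os : List ℤ) : ∀ m : ℕ,
    os.foldl (fun m u => min m (u.natAbs * u.natAbs)) m ≤ m ∧
      ∀ u ∈ os, os.foldl (fun m u => min m (u.natAbs * u.natAbs)) m ≤ u.natAbs * u.natAbs := by
  induction os with
  | nil => simp
  | cons a os ih =>
    intro m
    simp only [List.foldl_cons, List.mem_cons, forall_eq_or_imp]
    obtain ⟨h1, h2⟩ := ih (min m (a.natAbs * a.natAbs))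
    exact ⟨h1.trans (min_le_left _ _), h1.trans (min_le_right _ _), h2⟩

theorem minSq_le {os : List ℤ} {v : ℤ} (h : v ∈ os) : minSq os ≤ v.natAbs * v.natAbs := by
  cases os with
  | nil => simp at h
  | cons a os =>
    obtain ⟨h1, h2⟩ := foldl_minSq_le os (a.natAbs * a.natAbs)
    rcases List.mem_cons.1 h with rfl | h
    exacts [h1, h2 v h]

/-- A position of the depth-first search. -/
structure Slot where
  /-- the degree -/
  d : ℕ
  /-- the possible values -/
  os : List ℤ
  /-- a lower bound for the squares at the later positions -/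
  rest : ℕ
  /-- the sign -/
  sg : ℤ
  /-- the signed weight -/
  k : ℤ
  /-- this position and all later ones are negative -/
  negTail : Bool
  /-- an upper bound for the later weights -/
  cap : ℤ

/-- A bound for the weights of a list of degrees. -/
def capOf (P : ℕ) : List ℕ → ℕ
  | [] => 0
  | d :: ds => max (P / d) (capOf P ds)

/-- The positions. -/
def mkSlots (p P : ℕ) (os : ℕ → List ℤ) : List ℕ → List Slot
  | [] => []
  | d :: ds => ⟨d, os d, (ds.map fun u => minSq (os u)).sum, sd p d, sd p d * ((P / d : ℕ) : ℤ),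
      (d :: ds).all (fun u => sd p u == -1), (capOf P ds : ℤ)⟩ :: mkSlots p P os ds

/-- The test on a complete assignment. -/
def leafOK (t C x : ℕ) (ε kx : ℤ) (b : ℕ) (lin acc : ℤ) : Bool :=
  decide ((ε * lin).natAbs < x) && decide (t * ((ε * lin).natAbs * (ε * lin).natAbs) ≤ b) &&
    ((ε * lin - x) % (4 : ℤ) == 0) && (((ord23 / C : ℕ) : ℤ) * (ε * lin) % (x : ℤ) == 0) &&
    (acc == ε * (ε * lin * (ε * lin)) * kx)

/-- Depth-first search. -/
def dfs (t C x : ℕ) (ε kx : ℤ) : List Slot → ℕ → ℕ → ℤ → ℤ → ℤ → List (List (ℕ × ℤ))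
  | [], b, _, _, lin, acc =>
    if leafOK t C x ε kx b lin acc then [List.replicate t (x, ε * lin)] else []
  | s :: ss, b, pd, pv, lin, acc => s.os.flatMap fun v =>
    if (!(s.d == pd) || decide (pv ≤ v)) && decide (v.natAbs * v.natAbs + s.rest ≤ b) &&
        (!s.negTail || if ε == 1 then decide (0 ≤ acc + s.k * (v * v))
          else decide (acc + s.k * (v * v) ≤ ((b - v.natAbs * v.natAbs : ℕ) : ℤ) * s.cap)) then
      (dfs t C x ε kx ss (b - v.natAbs * v.natAbs) s.d v (lin + s.sg * v) (acc + s.k * (v * v))).map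
        ((s.d, v) :: ·)
    else []

theorem le_capOf (P : ℕ) {ds : List ℕ} {d : ℕ} (h : d ∈ ds) : P / d ≤ capOf P ds := by
  induction ds with
  | nil => simp at h
  | cons a ds ih =>
    rcases List.mem_cons.1 h with rfl | h
    · exact le_max_left _ _
    · exact (ih h).trans (le_max_right _ _)

theorem mem_dfs {p P t C x : ℕ} {ε kx : ℤ} (hε : ε = 1 ∨ ε = -1) (hkx : 0 ≤ kx)
    (os : ℕ → List ℤ) : ∀ (L : List (ℕ × ℤ)) (b pd : ℕ) (pv lin acc : ℤ),
    (∀ a ∈ L, a.2 ∈ os a.1) → L.Pairwise (fun a c => a.1 = c.1 → a.2 ≤ c.2) →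
    (∀ a ∈ L, a.1 = pd → pv ≤ a.2) →
    (L.map fun a => a.2.natAbs * a.2.natAbs).sum +
      t * ((ε * (lin + (L.map fun a => sd p a.1 * a.2).sum)).natAbs *
        (ε * (lin + (L.map fun a => sd p a.1 * a.2).sum)).natAbs) ≤ b →
    (ε * (lin + (L.map fun a => sd p a.1 * a.2).sum)).natAbs < x →
    (4 : ℤ) ∣ ε * (lin + (L.map fun a => sd p a.1 * a.2).sum) - x →
    (x : ℤ) ∣ ((ord23 / C : ℕ) : ℤ) * (ε * (lin + (L.map fun a => sd p a.1 * a.2).sum)) →
    acc + (L.map fun a => sd p a.1 * ((P / a.1 : ℕ) : ℤ) * (a.2 * a.2)).sum =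
      ε * (ε * (lin + (L.map fun a => sd p a.1 * a.2).sum) *
        (ε * (lin + (L.map fun a => sd p a.1 * a.2).sum))) * kx →
    L ++ List.replicate t (x, ε * (lin + (L.map fun a => sd p a.1 * a.2).sum)) ∈
      dfs t C x ε kx (mkSlots p P os (L.map Prod.fst)) b pd pv lin acc := by
  intro L
  induction L with
  | nil =>
    intro b pd pv lin acc _ _ _ hb hx h4 hK hacc
    simp only [List.map_nil, List.sum_nil, add_zero, zero_add] at hb hx h4 hK hacc
    simp only [List.map_nil, mkSlots, dfs, List.sum_nil, add_zero, List.nil_append]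
    rw [if_pos]
    · exact List.mem_singleton.2 rfl
    · simp only [leafOK, Bool.and_eq_true, decide_eq_true_eq, beq_iff_eq]
      exact ⟨⟨⟨⟨hx, hb⟩, Int.emod_eq_zero_of_dvd h4⟩, Int.emod_eq_zero_of_dvd hK⟩, hacc⟩
  | cons a L ih =>
    obtain ⟨d, v⟩ := a
    intro b pd pv lin acc hmem hpw hprev hb hx h4 hK hacc
    simp only [List.map_cons, List.sum_cons] at hb hx h4 hK hacc
    obtain ⟨hpw1, hpw2⟩ := List.pairwise_cons.1 hpw
    simp only [List.map_cons, mkSlots, dfs, List.sum_cons]
    refine List.mem_flatMap.2 ⟨v, hmem (d, v) List.mem_cons_self, ?_⟩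
    have hlin : lin + (sd p d * v + (L.map fun a => sd p a.1 * a.2).sum) =
        lin + sd p d * v + (L.map fun a => sd p a.1 * a.2).sum := by ring
    rw [hlin] at hb hx h4 hK hacc ⊢
    have hrest : ((L.map Prod.fst).map fun u => minSq (os u)).sum ≤
        (L.map fun a => a.2.natAbs * a.2.natAbs).sum := by
      rw [List.map_map]
      exact List.sum_le_sum fun a ha => minSq_le (hmem a (List.mem_cons_of_mem _ ha))
    rw [if_pos]
    · refine List.mem_map.2 ⟨_, ih _ d v _ _ (fun a ha => hmem a (List.mem_cons_of_mem _ ha)) hpw2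
        (fun a ha he => hpw1 a ha he.symm) (by omega) hx h4 hK (by linear_combination hacc), rfl⟩
    · simp only [Bool.and_eq_true, Bool.or_eq_true, Bool.not_eq_true', beq_eq_false_iff_ne,
        decide_eq_true_eq]
      refine ⟨⟨?_, by omega⟩, ?_⟩
      · by_cases he : d = pd
        · exact Or.inr (hprev (d, v) List.mem_cons_self he)
        · exact Or.inl he
      rw [or_iff_not_imp_left]
      intro hneg
      rw [Bool.not_eq_false, List.all_eq_true] at hneg
      have hneg' : ∀ a ∈ L, sd p a.1 = -1 := fun a ha =>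
        beq_iff_eq.1 (hneg a.1 (List.mem_cons_of_mem _ (List.mem_map_of_mem ha)))
      have hs : (L.map fun a => sd p a.1 * ((P / a.1 : ℕ) : ℤ) * (a.2 * a.2)).sum ≤ 0 ∧
          -((capOf P (L.map Prod.fst) : ℕ) : ℤ) * ((L.map fun a => a.2.natAbs * a.2.natAbs).sum : ℕ) ≤
            (L.map fun a => sd p a.1 * ((P / a.1 : ℕ) : ℤ) * (a.2 * a.2)).sum := by
        clear ih hb hx h4 hK hacc hlin hrest hpw hpw1 hpw2 hprev hmem hneg
        have key : ∀ L' : List (ℕ × ℤ), (∀ a ∈ L', sd p a.1 = -1) → ∀ K : ℕ,
            (∀ a ∈ L', P / a.1 ≤ K) →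
            (L'.map fun a => sd p a.1 * ((P / a.1 : ℕ) : ℤ) * (a.2 * a.2)).sum ≤ 0 ∧
            -(K : ℤ) * ((L'.map fun a => a.2.natAbs * a.2.natAbs).sum : ℕ) ≤
              (L'.map fun a => sd p a.1 * ((P / a.1 : ℕ) : ℤ) * (a.2 * a.2)).sum := by
          intro L'
          induction L' with
          | nil => intro _ K _; simp
          | cons a L' ih' =>
            intro hn K hK'
            obtain ⟨h1, h2⟩ := ih' (fun c hc => hn c (List.mem_cons_of_mem _ hc)) K
              fun c hc => hK' c (List.mem_cons_of_mem _ hc)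
            simp only [List.map_cons, List.sum_cons, hn a List.mem_cons_self]
            have hsq : (0 : ℤ) ≤ a.2 * a.2 := mul_self_nonneg a.2
            have hq : (0 : ℤ) ≤ ((P / a.1 : ℕ) : ℤ) := Int.natCast_nonneg _
            have hq' : ((P / a.1 : ℕ) : ℤ) ≤ (K : ℤ) := Int.ofNat_le.2 (hK' a List.mem_cons_self)
            have hn2 : ((a.2.natAbs * a.2.natAbs : ℕ) : ℤ) = a.2 * a.2 := Int.natAbs_mul_self
            rw [Nat.cast_add, hn2]
            have m1 := mul_nonneg hq hsq
            have m2 := mul_le_mul_of_nonneg_right hq' hsq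
            constructor
            · linarith
            · linarith
        exact key L hneg' _ fun a ha => le_capOf P (List.mem_map_of_mem ha)
      have hk : acc + sd p d * ((P / d : ℕ) : ℤ) * (v * v) +
          (L.map fun a => sd p a.1 * ((P / a.1 : ℕ) : ℤ) * (a.2 * a.2)).sum =
          ε * (ε * (lin + sd p d * v + (L.map fun a => sd p a.1 * a.2).sum) *
            (ε * (lin + sd p d * v + (L.map fun a => sd p a.1 * a.2).sum))) * kx := by
        linear_combination hacc
      set W := ε * (lin + sd p d * v + (L.map fun a => sd p a.1 * a.2).sum)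
      have hW := mul_nonneg (mul_self_nonneg W) hkx
      rcases hε with rfl | rfl
      · rw [if_pos (by rfl)]
        simp only [decide_eq_true_eq]
        linarith [hs.1]
      · rw [if_neg (by decide)]
        simp only [decide_eq_true_eq]
        have hle : ((L.map fun a => a.2.natAbs * a.2.natAbs).sum : ℕ) ≤ b - v.natAbs * v.natAbs := by
          omega
        have hcast : (((L.map fun a => a.2.natAbs * a.2.natAbs).sum : ℕ) : ℤ) *
            ((capOf P (L.map Prod.fst) : ℕ) : ℤ) ≤
            ((b - v.natAbs * v.natAbs : ℕ) : ℤ) * ((capOf P (L.map Prod.fst) : ℕ) : ℤ) :=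
          mul_le_mul_of_nonneg_right (by exact_mod_cast hle) (Int.natCast_nonneg _)
        linarith [hs.2]

/-- Any permutation of the degrees carries an assignment with monotone values. -/
theorem exists_monotone : ∀ (ds : List ℕ) (it : List (ℕ × ℤ)), ds.Perm (it.map Prod.fst) →
    ∃ L : List (ℕ × ℤ), L.Perm it ∧ L.map Prod.fst = ds ∧
      L.Pairwise (fun a c => a.1 = c.1 → a.2 ≤ c.2)
  | [], it, h => by
    have : it = [] := List.map_eq_nil_iff.1 (List.nil_perm.1 h)
    exact ⟨[], this ▸ List.Perm.refl _, rfl, List.Pairwise.nil⟩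
  | d :: ds, it, h => by
    classical
    set V := (it.filter fun a => a.1 == d).map Prod.snd with hV
    have hne : V ≠ [] := by
      obtain ⟨a, ha, hd⟩ := List.mem_map.1 (h.subset List.mem_cons_self)
      exact List.ne_nil_of_mem (List.mem_map_of_mem (List.mem_filter.2 ⟨ha, by simp [hd]⟩))
    obtain ⟨v, hv, hmin⟩ := Finset.exists_min_image V.toFinset id
      (by rwa [List.toFinset_nonempty_iff])
    rw [List.mem_toFinset, hV, List.mem_map] at hv
    obtain ⟨a, ha, rfl⟩ := hv
    rw [List.mem_filter, beq_iff_eq] at ha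
    obtain ⟨ha, rfl⟩ := ha
    have hperm := List.perm_cons_erase ha
    have h' : ds.Perm ((it.erase a).map Prod.fst) :=
      List.Perm.cons_inv (h.trans (hperm.map Prod.fst))
    obtain ⟨L, hL1, hL2, hL3⟩ := exists_monotone ds (it.erase a) h'
    refine ⟨a :: L, (hL1.cons a).trans hperm.symm, by rw [List.map_cons, hL2],
      List.pairwise_cons.2 ⟨fun c hc he => hmin c.2 ?_, hL3⟩⟩
    rw [List.mem_toFinset, hV]
    exact List.mem_map_of_mem (List.mem_filter.2
      ⟨List.mem_of_mem_erase (hL1.subset hc), by simp [he]⟩)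

/-- The order of the degrees: positive ones first. -/
def posFirst (p : ℕ) (ds : List ℕ) : List ℕ :=
  (ds.filter fun d => sd p d == 1) ++ ds.filter fun d => !(sd p d == 1)

/-- Fill a row of a block with odd automiser and trivial regular part. -/
def vfill (p C b : ℕ) (r : Row) (known : List (ℕ × ℤ)) : List (List (ℕ × ℤ)) :=
  (dfs r.t C r.x r.eps ((r.x * r.ds.prod / r.x : ℕ) : ℤ)
      (mkSlots p (r.x * r.ds.prod) (optsF 4 C b r.degs known) (posFirst p r.ds))
      b 0 0 1 ((r.x * r.ds.prod : ℕ) : ℤ)).filter fun l => leL known l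

theorem Filled.mem_vfill {p e c C b : ℕ} {r : Row} {known it : List (ℕ × ℤ)} {w : ℤ}
    (hε : r.eps = 1 ∨ r.eps = -1) (he : e % 2 = 1) (hpos : ∀ d ∈ r.ds, 0 < d)
    (h : Filled p e c 4 C b r known it w) :
    ∃ l ∈ vfill p C b r known, l.Perm (it ++ List.replicate r.t (r.x, w)) := by
  classical
  have hperm : (posFirst p r.ds).Perm r.ds := List.filter_append_perm _ _
  obtain ⟨L, hL1, hL2, hL3⟩ := exists_monotone (posFirst p r.ds) it (hperm.trans (h.fst ▸ List.Perm.refl _))
  have hsum : (L.map fun a => sd p a.1 * a.2).sum = (it.map fun a => sd p a.1 * a.2).sum :=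
    (hL1.map _).sum_eq
  have hw : r.eps * (1 + (L.map fun a => sd p a.1 * a.2).sum) = w := by
    rw [hsum, h.rel]; rfl
  have hpair : (L.Perm it) := hL1
  have hfin : (it ++ List.replicate r.t (r.x, w)).Perm (L ++ List.replicate r.t (r.x, w)) :=
    hL1.symm.append_right _
  have hP : degProd it r.x = r.x * r.ds.prod := by simp only [degProd, h.fst]
  have hQ : quadNum p it r.x r.eps w = 0 := by
    have := h.quad
    simp only [quadOK, Bool.and_eq_true, Bool.or_eq_true, beq_iff_eq] at this
    rcases this.1.1.2 with h' | h'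
    · omega
    · exact h'
  have hmem : ∀ a ∈ L, a.2 ∈ optsF 4 C b r.degs known a.1 := by
    intro a ha
    have ha' : a ∈ it := hL1.subset ha
    have := h.mem_fill
    unfold fill at this
    obtain ⟨vs, hvs, hres⟩ := List.mem_flatMap.1 this
    split_ifs at hres with hcond
    · rw [List.mem_singleton] at hres
      have hlen : ∀ (os : List (List ℤ)) (b : ℕ) (vs : List ℤ),
          vs ∈ CfsgLib.MathieuTwentyTwo.ByOrder.vecs os b → List.Forall₂ (fun v o => v ∈ o) vs os := by
        intro os
        induction os with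
        | nil => intro b vs hv; simp [CfsgLib.MathieuTwentyTwo.ByOrder.vecs] at hv; subst hv; exact .nil
        | cons o os ih =>
          intro b vs hv
          simp only [CfsgLib.MathieuTwentyTwo.ByOrder.vecs, List.mem_flatMap] at hv
          obtain ⟨v, hv1, hv2⟩ := hv
          split_ifs at hv2 with hc'
          · obtain ⟨vs', hvs', rfl⟩ := List.mem_map.1 hv2
            exact .cons hv1 (ih _ _ hvs')
          · simp at hv2
      have hf := hlen _ _ _ hvs
      have hl : (r.ds.zip vs).length = it.length := by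
        have h1 := congrArg List.length h.fst
        have h2 := hf.length_eq
        simp only [List.length_map] at h1 h2
        rw [List.length_zip, h1, h2, min_self]
      have hit : r.ds.zip vs = it := (List.append_inj hres.symm hl).1
      rw [← hit] at ha'
      rw [List.forall₂_map_right_iff] at hf
      exact (List.forall₂_iff_zip.1 hf).2 (show (a.2, a.1) ∈ vs.zip r.ds by
        rw [← List.zip_swap r.ds vs]
        exact List.mem_map_of_mem (f := Prod.swap) ha')
    · simp at hres
  have hb : (L.map fun a => a.2.natAbs * a.2.natAbs).sum + r.t * (w.natAbs * w.natAbs) ≤ b := by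
    rw [(hL1.map _).sum_eq]; exact h.sq
  have hd := mem_dfs (p := p) (P := r.x * r.ds.prod) (t := r.t) (C := C) (x := r.x) (ε := r.eps)
    (kx := ((r.x * r.ds.prod / r.x : ℕ) : ℤ)) hε (Int.natCast_nonneg _) (optsF 4 C b r.degs known)
    L b 0 0 1 ((r.x * r.ds.prod : ℕ) : ℤ) hmem hL3 ?_ (by rw [hw]; exact hb)
    (by rw [hw]; exact h.valw.1) (by rw [hw]; exact_mod_cast h.valw.2.1)
    (by rw [hw]; exact h.valw.2.2) ?_
  · rw [hw, hL2] at hd
    refine ⟨_, List.mem_filter.2 ⟨hd, ?_⟩, hfin.symm⟩
    exact leL_of_le (h.known_le.trans (le_of_eq (Multiset.coe_eq_coe.2 hfin)))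
  · intro a ha ha0
    exfalso
    have : a.1 ∈ r.ds := hperm.subset (hL2 ▸ List.mem_map_of_mem ha)
    exact absurd ha0 (hpos _ this).ne'
  · rw [hw]
    simp only [quadNum, hP] at hQ
    rw [(hL1.map fun a => sd p a.1 * (((r.x * r.ds.prod) / a.1 : ℕ) : ℤ) * (a.2 * a.2)).sum_eq]
    have hsw : (it.map fun a => sd p a.1 * (((r.x * r.ds.prod) / a.1 : ℕ) : ℤ) * (a.2 * a.2)).sum =
        (it.map fun a => sd p a.1 * (a.2 * a.2) * (((r.x * r.ds.prod) / a.1 : ℕ) : ℤ)).sum :=
      congrArg List.sum (List.map_congr_left fun a _ => by ring)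
    rw [hsw]
    linarith

end CfsgLib.MathieuTwentyThree.ByOrder
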