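import Cfsg.Agent.Lib.MathieuTwentyThree.Setup
import Cfsg.Agent.Lib.Characters.Decomp

/-!
# Interface of the recognition of the Mathieu group of degree twenty-three by its order

`Shape` is what the searches over the principal blocks at 23, 11, 7 and 5 give. The class count then
fixes the centraliser of the elements of order three and the regular part at 7.
-/

set_option autoImplicit false

namespace CfsgLib.MathieuTwentyThree.ByOrder

open Subgroup

universe u

/-- The output of the block searches. -/
structure Shape (G : Type u) [Group G] : Prop where
  card : Nat.card G = 10200960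
  centralizer_two : ∀ t : G, orderOf t = 2 → Nat.card (centralizer ({t} : Set G)) = 2688
  conj_two : ∀ s t : G, orderOf s = 2 → orderOf t = 2 → IsConj s t
  card_irr : Nat.card (Cfsg.IrrCharacter G) = 17
  centralizer_five : ∀ y : G, orderOf y = 5 → Nat.card (centralizer ({y} : Set G)) = 15
  normalizer_five : ∀ y : G, orderOf y = 5 → Nat.card (normalizer (zpowers y : Set G)) = 60
  seven : ∀ y : G, orderOf y = 7 → ∃ c : ℕ, (c = 2 ∨ c = 16 ∨ c = 128) ∧
    Nat.card (centralizer ({y} : Set G)) = 7 * c ∧
    Nat.card (normalizer (zpowers y : Set G)) = 21 * c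
  centralizer_eleven : ∀ y : G, orderOf y = 11 → Nat.card (centralizer ({y} : Set G)) = 11
  normalizer_eleven : ∀ y : G, orderOf y = 11 → Nat.card (normalizer (zpowers y : Set G)) = 55
  centralizer_twentythree : ∀ y : G, orderOf y = 23 → Nat.card (centralizer ({y} : Set G)) = 23
  normalizer_twentythree : ∀ y : G, orderOf y = 23 → Nat.card (normalizer (zpowers y : Set G)) = 253

end CfsgLib.MathieuTwentyThree.ByOrder
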