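import Cfsg.Agent.Lib.MathieuTwentyThreeOrder.Bridge
import Cfsg.Agent.Lib.MathieuTwentyThreeOrder.CertTwentyThree
import Cfsg.Agent.Lib.MathieuTwentyThreeOrder.CertEleven

/-!
# The elements of order twenty-three and eleven are self-centralising
-/

set_option autoImplicit false
set_option linter.style.haveILetI false
set_option linter.unusedSectionVars false

noncomputable section

namespace CfsgLib.MathieuTwentyThree.ByOrder

open Cfsg CfsgLib.Characters CfsgLib.CharCorr
open CfsgLib.MathieuTwentyTwo.ByOrder (regPart mem_regPart exists_mem_ne_one card_centralizer Blk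
  exists_blk dg orderOf_eq_p commute_regPart exists_regPart_orderOf)
open scoped Classical

universe u

variable {G : Type u} [Group G] [Fintype G] [IsSimpleGroup G] {p : ℕ} [hp' : Fact p.Prime]

theorem exists_sylow_eq (hG : Nat.card G = ord23) (hp' : p = 5 ∨ p = 7 ∨ p = 11 ∨ p = 23) {y : G}
    (hy : orderOf y = p) : ∃ P : Sylow p G, (P : Subgroup G) = Subgroup.zpowers y := by
  obtain ⟨P, hP⟩ := (IsPGroup.of_card (p := p) (n := 1)
    (by rw [pow_one, Nat.card_zpowers, hy]) : IsPGroup p (Subgroup.zpowers y)).exists_le_sylow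
  exact ⟨P, (Subgroup.eq_of_le_of_card_ge hP
    (by rw [card_sylow_eq hG hp' P, Nat.card_zpowers, hy])).symm⟩

/-- Centraliser and normaliser of an element of order `p`, from one Sylow subgroup. -/
theorem card_orderOf (hG : Nat.card G = ord23) (hp' : p = 5 ∨ p = 7 ∨ p = 11 ∨ p = 23) (P : Sylow p G)
    {e : ℕ} (hN : Nat.card (Subgroup.centralizer ((P : Subgroup G) : Set G)) * e =
      Nat.card (Subgroup.normalizer ((P : Subgroup G) : Set G))) {y : G} (hy : orderOf y = p) :
    Nat.card (Subgroup.centralizer ({y} : Set G)) = p * (regPart P).card ∧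
      Nat.card (Subgroup.normalizer ((Subgroup.zpowers y : Subgroup G) : Set G)) =
        p * (regPart P).card * e := by
  have hP := card_sylow_eq hG hp' P
  obtain ⟨Q, hQ⟩ := exists_sylow_eq hG hp' hy
  obtain ⟨x, hx, hx1⟩ := exists_mem_ne_one P hP
  obtain ⟨g, hg⟩ := MulAction.exists_smul_eq G P Q
  set x' := g * x * g⁻¹ with hx'
  have hx'Q : x' ∈ (Q : Subgroup G) := by
    rw [← hg, Sylow.coe_subgroup_smul]
    exact Subgroup.smul_mem_pointwise_smul x (MulAut.conj g) _ hx
  have hx'o : orderOf x' = p := by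
    rw [← orderOf_eq_p hP hx hx1, hx']
    exact (MulEquiv.orderOf_eq (MulAut.conj g) x).trans rfl
  have hxz : Subgroup.zpowers x' = Subgroup.zpowers y :=
    Subgroup.eq_of_le_of_card_ge (Subgroup.zpowers_le.2 (hQ ▸ hx'Q))
      (by rw [Nat.card_zpowers, Nat.card_zpowers, hy, hx'o])
  have hPz : Subgroup.zpowers x = (P : Subgroup G) :=
    Subgroup.eq_of_le_of_card_ge (Subgroup.zpowers_le.2 hx)
      (by rw [hP, Nat.card_zpowers, orderOf_eq_p hP hx hx1])
  have hc : ∀ w : G, Subgroup.centralizer ((Subgroup.zpowers w : Subgroup G) : Set G) =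
      Subgroup.centralizer ({w} : Set G) := fun w => by
    rw [Subgroup.zpowers_eq_closure, Subgroup.centralizer_closure]
  have h1 : Nat.card (Subgroup.centralizer ({x} : Set G)) = p * (regPart P).card := by
    rw [← hc, hPz, card_centralizer P hP]
  have h2 : Nat.card (Subgroup.centralizer ({x'} : Set G)) =
      Nat.card (Subgroup.centralizer ({x} : Set G)) := by
    have hcls : ClassCount.cls x' = ClassCount.cls x := Finset.ext fun w => by
      rw [ClassCount.mem_cls, ClassCount.mem_cls]
      have hconj : IsConj x x' := isConj_iff.2 ⟨g, rfl⟩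
      exact ⟨fun h => hconj.trans h, fun h => hconj.symm.trans h⟩
    have e1 := ClassCount.card_cls_mul_centralizer x'
    rw [hcls, ← ClassCount.card_cls_mul_centralizer x] at e1
    exact Nat.eq_of_mul_eq_mul_left (Finset.card_pos.2 ⟨x, ClassCount.mem_cls_self x⟩) e1
  refine ⟨by rw [← hc, ← hxz, hc, h2, h1], ?_⟩
  rw [← hQ, ← card_centralizer P hP, hN]
  have e1 := Small.card_normalizer_mul_card_sylow P
  rw [← Small.card_normalizer_mul_card_sylow Q] at e1
  exact (Nat.eq_of_mul_eq_mul_right Nat.card_pos e1).symm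

/-- An element of order `q` in the regular part at `p` puts one of order `p` in that at `q`. -/
theorem link (hG : Nat.card G = ord23) {q : ℕ} [Fact q.Prime]
    (hp : p = 5 ∨ p = 7 ∨ p = 11 ∨ p = 23) (hq : q = 5 ∨ q = 7 ∨ q = 11 ∨ q = 23) (hpq : p ≠ q)
    (P : Sylow p G) (Q : Sylow q G) {eQ : ℕ}
    (hN : Nat.card (Subgroup.centralizer ((Q : Subgroup G) : Set G)) * eQ =
      Nat.card (Subgroup.normalizer ((Q : Subgroup G) : Set G)))
    (hd : q ∣ (regPart P).card) : p ∣ (regPart Q).card := by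
  have hP := card_sylow_eq hG hp P
  obtain ⟨y, hy, hoy⟩ := exists_regPart_orderOf hP (Fact.out : q.Prime) hpq.symm hd
  obtain ⟨x, hx, hx1⟩ := exists_mem_ne_one P hP
  have h := Subgroup.orderOf_dvd_natCard (Subgroup.centralizer ({y} : Set G)) (x := x)
    (Subgroup.mem_centralizer_singleton_iff.2 (commute_regPart hx hy))
  rw [orderOf_eq_p hP hx hx1, (card_orderOf hG hq Q hN hoy).1] at h
  exact ((Nat.Prime.dvd_mul hp'.out).1 h).resolve_left fun h =>
    hpq ((Nat.prime_dvd_prime_iff_eq hp'.out (Fact.out : q.Prime)).1 h)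

/-- With a trivial regular part the degrees are restricted modulo `p`. -/
theorem dg_mod (hG : Nat.card G = ord23) (hodd : p ≠ 2) {P : Sylow p G} {e : ℕ} (B : Blk P e)
    (hc : (regPart P).card = 1) (hY : B.Y.card = 2) {χ : IrrCharacter G} :
    dg χ % p = 0 ∨ dg χ % p = 1 ∨ dg χ % p + 1 = p ∨
      ((dg χ % p = e % p ∨ (dg χ % p + e) % p = 0) ∧ 2 * (dg χ * dg χ) < ord23) := by
  by_cases hm : χ ∈ B.X ∨ χ ∈ B.Y
  swap
  · rw [not_or] at hm
    exact Or.inl (Nat.mod_eq_zero_of_dvd (B.dvd_other hc χ hm.1 hm.2))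
  rcases hm with h | h
  · rcases (B.mod_sgn hodd h).1 with h' | h'
    · exact Or.inr (Or.inl h')
    · exact Or.inr (Or.inr (Or.inl h'))
  · refine Or.inr (Or.inr (Or.inr ⟨?_, ?_⟩))
    · obtain ⟨k, hk⟩ := B.degY χ h
      rcases B.ε_spec with hε | hε <;> rw [hε] at hk
      · refine Or.inl ?_
        have h1 : ((dg χ : ℤ)) = (e : ℤ) + (p : ℤ) * k := by simp only [dg]; linarith
        have h2 : ((dg χ % p : ℕ) : ℤ) = ((e % p : ℕ) : ℤ) := by
          rw [Int.natCast_mod, Int.natCast_mod, h1, Int.add_mul_emod_self_left]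
        exact_mod_cast h2
      · refine Or.inr ?_
        have h1 : ((dg χ + e : ℕ) : ℤ) = (p : ℤ) * k := by
          simp only [dg]; push_cast; linarith
        rw [Nat.mod_add_mod]
        exact Nat.mod_eq_zero_of_dvd (Int.natCast_dvd_natCast.1 ⟨k, h1⟩)
    · have h1 : B.Y.card * (dg χ * dg χ) ≤ ∑ θ ∈ B.members, dg θ * dg θ := by
        rw [← smul_eq_mul, ← Finset.sum_const]
        exact le_of_eq_of_le (Finset.sum_congr rfl fun θ hθ => by rw [B.dg_eq hθ h])
          (Finset.sum_le_sum_of_subset Finset.subset_union_right)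
      have h2 := sum_members_le hG B
      rw [hY] at h1
      omega

/-- At 23 the automiser has order 11 and the regular part is trivial. -/
theorem twentythree (hG : Nat.card G = ord23) [Fact (Nat.Prime 23)] (P : Sylow 23 G) :
    (regPart P).card = 1 ∧ (Subgroup.centralizer ((P : Subgroup G) : Set G)).relIndex
        (Subgroup.normalizer ((P : Subgroup G) : Set G)) = 11 ∧
      Nat.card (Subgroup.centralizer ((P : Subgroup G) : Set G)) * 11 =
        Nat.card (Subgroup.normalizer ((P : Subgroup G) : Set G)) := by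
  obtain ⟨e, -, hopt, hrel, hN⟩ := mem_optsEC hG (by simp) P (ex := []) (by simp)
  have hP := card_sylow_eq hG (p := 23) (by simp) P
  have h := List.all_eq_true.1 options_twentythree _ hopt
  simp only [Bool.or_eq_true, Bool.and_eq_true, beq_iff_eq, List.isEmpty_iff] at h
  obtain ⟨B⟩ := exists_blk (nc hG) (by norm_num) P hP hrel
  rcases h with (⟨h1, h2⟩ | ⟨h2, h⟩) | ⟨-, h⟩
  · subst h1; exact ⟨h2, hrel, hN⟩
  · exact absurd h (exists_vstage hG (by norm_num) (by norm_num) hP hrel hN B degA_sorted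
      (fun χ hχ => deg_mem hG hχ) (Nat.dvd_of_mod_eq_zero h2))
  · obtain ⟨r, hr, -⟩ := exists_row_allowed hG (by norm_num) (by norm_num) hP hN B degA_sorted
      (fun χ hχ => deg_mem hG hχ)
    rw [h] at hr
    exact absurd hr List.not_mem_nil

theorem centralizer_twentythree (hG : Nat.card G = ord23) {y : G} (hy : orderOf y = 23) :
    Nat.card (Subgroup.centralizer ({y} : Set G)) = 23 ∧
      Nat.card (Subgroup.normalizer ((Subgroup.zpowers y : Subgroup G) : Set G)) = 253 := by
  haveI := Fact.mk (show Nat.Prime 23 by norm_num)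
  obtain ⟨P⟩ : Nonempty (Sylow 23 G) := inferInstance
  obtain ⟨hc, -, hN⟩ := twentythree hG P
  have h := card_orderOf hG (by simp) P hN hy
  rw [hc] at h
  exact h

/-- The block at 23. -/
theorem exists_blk_twentythree (hG : Nat.card G = ord23) [Fact (Nat.Prime 23)] :
    ∃ P : Sylow 23 G, (regPart P).card = 1 ∧
      (Subgroup.centralizer ((P : Subgroup G) : Set G)).relIndex
        (Subgroup.normalizer ((P : Subgroup G) : Set G)) = 11 ∧
      ∃ B : Blk P 11, B.Y.card = 2 := by
  obtain ⟨P⟩ : Nonempty (Sylow 23 G) := inferInstance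
  obtain ⟨hc, hrel, -⟩ := twentythree hG P
  obtain ⟨B⟩ := exists_blk (nc hG) (by norm_num) P (card_sylow_eq hG (p := 23) (by simp) P) hrel
  exact ⟨P, hc, hrel, B, by have := B.card_Y; omega⟩

theorem dg_mem_degB (hG : Nat.card G = ord23) {χ : IrrCharacter G} (hne : χ ≠ principalIrr G) :
    dg χ ∈ degB := by
  haveI := Fact.mk (show Nat.Prime 23 by norm_num)
  obtain ⟨P, hc, -, B, hY⟩ := exists_blk_twentythree hG
  have h := dg_mod hG (by norm_num) B hc hY (χ := χ)
  refine List.mem_filter.2 ⟨deg_mem hG hne, ?_⟩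
  simp only [Bool.or_eq_true, Bool.and_eq_true, beq_iff_eq, decide_eq_true_eq]
  simp only [dg] at h ⊢
  omega

/-- No element of order 23 centralises one of another prime order. -/
theorem not_dvd_regPart (hG : Nat.card G = ord23) (hp : p = 5 ∨ p = 7 ∨ p = 11) (P : Sylow p G) :
    ¬ 23 ∣ (regPart P).card := by
  intro h
  haveI := Fact.mk (show Nat.Prime 23 by norm_num)
  obtain ⟨Q⟩ : Nonempty (Sylow 23 G) := inferInstance
  obtain ⟨hc, -, hN⟩ := twentythree hG Q
  have := link hG (by tauto) (q := 23) (by simp) (by rcases hp with rfl | rfl | rfl <;> norm_num) P Q hN h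
  rw [hc, Nat.dvd_one] at this
  rcases hp with rfl | rfl | rfl <;> omega

/-- The regular part at 7 has order prime to 11. -/
theorem no_seventy_seven (hG : Nat.card G = ord23) [Fact (Nat.Prime 7)] (P : Sylow 7 G) :
    ¬ 11 ∣ (regPart P).card := by
  intro h11
  obtain ⟨e, -, hopt, hrel, hN⟩ := mem_optsEC hG (by simp) P (ex := [23]) (by
    simp only [List.mem_singleton, forall_eq]
    exact not_dvd_regPart hG (by simp) P)
  have hP := card_sylow_eq hG (p := 7) (by simp) P
  have h := List.all_eq_true.1 options_seventy_seven _ hopt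
  simp only [Bool.or_eq_true, Bool.and_eq_true, beq_iff_eq, List.isEmpty_iff, Bool.not_eq_true',
    beq_eq_false_iff_ne] at h
  obtain ⟨B⟩ := exists_blk (nc hG) (by norm_num) P hP hrel
  rcases h with (h | h) | ⟨h2, h⟩
  · exact h (Nat.mod_eq_zero_of_dvd h11)
  · obtain ⟨r, hr, -⟩ := exists_row_allowed hG (by norm_num) (by norm_num) hP hN B degB_sorted
      (fun χ hχ => dg_mem_degB hG hχ)
    rw [h] at hr
    exact List.not_mem_nil hr
  · obtain ⟨z, -, l, hl, -⟩ := exists_stage hG (by norm_num) (by norm_num) hP hrel hN B degB_sorted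
      (fun χ hχ => dg_mem_degB hG hχ) (Nat.dvd_of_mod_eq_zero h2)
    rw [h] at hl
    exact List.not_mem_nil hl

/-- At 11 the automiser has order 5 and the regular part is trivial. -/
theorem eleven (hG : Nat.card G = ord23) [Fact (Nat.Prime 11)] (P : Sylow 11 G) :
    (regPart P).card = 1 ∧ (Subgroup.centralizer ((P : Subgroup G) : Set G)).relIndex
        (Subgroup.normalizer ((P : Subgroup G) : Set G)) = 5 ∧
      Nat.card (Subgroup.centralizer ((P : Subgroup G) : Set G)) * 5 =
        Nat.card (Subgroup.normalizer ((P : Subgroup G) : Set G)) := by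
  haveI := Fact.mk (show Nat.Prime 7 by norm_num)
  obtain ⟨Q⟩ : Nonempty (Sylow 7 G) := inferInstance
  obtain ⟨eQ, -, -, -, hNQ⟩ := mem_optsEC hG (by simp) Q (ex := []) (by simp)
  obtain ⟨e, -, hopt, hrel, hN⟩ := mem_optsEC hG (by simp) P (ex := [7, 23]) (by
    simp only [List.mem_cons, List.not_mem_nil, or_false, forall_eq_or_imp, forall_eq]
    exact ⟨fun h => no_seventy_seven hG Q (link hG (by simp) (q := 7) (by simp) (by norm_num) P Q
      hNQ h), not_dvd_regPart hG (by simp) P⟩)
  have hP := card_sylow_eq hG (p := 11) (by simp) P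
  have h := List.all_eq_true.1 options_eleven _ hopt
  simp only [Bool.or_eq_true, Bool.and_eq_true, beq_iff_eq, List.isEmpty_iff] at h
  obtain ⟨B⟩ := exists_blk (nc hG) (by norm_num) P hP hrel
  rcases h with (⟨h1, h2⟩ | h) | ⟨h2, h⟩
  · subst h1; exact ⟨h2, hrel, hN⟩
  · obtain ⟨r, hr, -⟩ := exists_row_allowed hG (by norm_num) (by norm_num) hP hN B degB_sorted
      (fun χ hχ => dg_mem_degB hG hχ)
    rw [h] at hr
    exact absurd hr List.not_mem_nil
  · obtain ⟨z, -, l, hl, -⟩ := exists_stage hG (by norm_num) (by norm_num) hP hrel hN B degB_sorted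
      (fun χ hχ => dg_mem_degB hG hχ) (Nat.dvd_of_mod_eq_zero h2)
    rw [h] at hl
    exact absurd hl List.not_mem_nil

theorem centralizer_eleven (hG : Nat.card G = ord23) {y : G} (hy : orderOf y = 11) :
    Nat.card (Subgroup.centralizer ({y} : Set G)) = 11 ∧
      Nat.card (Subgroup.normalizer ((Subgroup.zpowers y : Subgroup G) : Set G)) = 55 := by
  haveI := Fact.mk (show Nat.Prime 11 by norm_num)
  obtain ⟨P⟩ : Nonempty (Sylow 11 G) := inferInstance
  obtain ⟨hc, -, hN⟩ := eleven hG P
  have h := card_orderOf hG (by simp) P hN hy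
  rw [hc] at h
  exact h

/-- The block at 11. -/
theorem exists_blk_eleven (hG : Nat.card G = ord23) [Fact (Nat.Prime 11)] :
    ∃ P : Sylow 11 G, (regPart P).card = 1 ∧
      (Subgroup.centralizer ((P : Subgroup G) : Set G)).relIndex
        (Subgroup.normalizer ((P : Subgroup G) : Set G)) = 5 ∧
      ∃ B : Blk P 5, B.Y.card = 2 := by
  obtain ⟨P⟩ : Nonempty (Sylow 11 G) := inferInstance
  obtain ⟨hc, hrel, -⟩ := eleven hG P
  obtain ⟨B⟩ := exists_blk (nc hG) (by norm_num) P (card_sylow_eq hG (p := 11) (by simp) P) hrel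
  exact ⟨P, hc, hrel, B, by have := B.card_Y; omega⟩

theorem dg_mem_degC (hG : Nat.card G = ord23) {χ : IrrCharacter G} (hne : χ ≠ principalIrr G) :
    dg χ ∈ degC := by
  haveI := Fact.mk (show Nat.Prime 11 by norm_num)
  obtain ⟨P, hc, -, B, hY⟩ := exists_blk_eleven hG
  have h := dg_mod hG (by norm_num) B hc hY (χ := χ)
  refine List.mem_filter.2 ⟨dg_mem_degB hG hne, ?_⟩
  simp only [Bool.or_eq_true, Bool.and_eq_true, beq_iff_eq, decide_eq_true_eq]
  simp only [dg] at h ⊢
  omega

/-- Neither 11 nor 23 divides the regular parts at 5 and 7. -/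
theorem not_dvd_small (hG : Nat.card G = ord23) (hp : p = 5 ∨ p = 7) (P : Sylow p G) :
    ∀ q ∈ [11, 23], ¬ q ∣ (regPart P).card := by
  simp only [List.mem_cons, List.not_mem_nil, or_false, forall_eq_or_imp, forall_eq]
  refine ⟨fun h => ?_, not_dvd_regPart hG (by tauto) P⟩
  haveI := Fact.mk (show Nat.Prime 11 by norm_num)
  obtain ⟨Q⟩ : Nonempty (Sylow 11 G) := inferInstance
  obtain ⟨hc, -, hN⟩ := eleven hG Q
  have := link hG (by tauto) (q := 11) (by simp) (by rcases hp with rfl | rfl <;> norm_num) P Q hN h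
  rw [hc, Nat.dvd_one] at this
  rcases hp with rfl | rfl <;> omega

end CfsgLib.MathieuTwentyThree.ByOrder
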